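import Groth.Agent.DQCoh.Serre
import Groth.Agent.RPushQC.Main
import Groth.Agent.RPushSite.CohIn
import Groth.Agent.CohQC.Relative
import Groth.Agent.CohQC.RpushModules
import Groth.Agent.SiteCoh.ClosedPush
import Groth.Agent.DerPush.Basic

/-!
`Rf_*` on complexes with quasi-coherent cohomology: quasi-compact base.
-/

set_option autoImplicit false
set_option backward.isDefEq.respectTransparency false
set_option backward.isDefEq.respectTransparency.types false
set_option linter.style.haveILetI false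

universe u

open CategoryTheory Limits AlgebraicGeometry Opposite TopologicalSpace

attribute [local instance] HasDerivedCategory.standard

namespace Groth.Agent.DQPush

variable {X S : Scheme.{u}}

/-- quasi-coherent modules -/
abbrev qc (X : Scheme.{u}) : ObjectProperty (ModSite.Mod X.sheaf) := fun M => Coh.IsQCoh (X := X) M

instance isWeakSerre_qc : WSerre.IsWeakSerre (qc X) where
  exists_zero := ⟨_, isZero_zero _, DQCoh.isQCoh_of_isZero (isZero_zero X.Modules)⟩
  kernels_le := by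
    rintro _ ⟨φ, k, hk, h₁, h₂⟩
    exact QC.isQCoh_of_iso ((kernelIsKernel φ).conePointUniqueUpToIso hk) (QC.isQCoh_kernel h₁ h₂ φ)
  cokernels_le := by
    rintro _ ⟨φ, k, hk, h₁, h₂⟩
    exact QC.isQCoh_of_iso ((cokernelIsCokernel φ).coconePointUniqueUpToIso hk) (QC.isQCoh_cokernel h₁ h₂ φ)
  prop_X₂_of_shortExact hS h₁ h₃ := DQCoh.isQCoh_of_shortExact hS h₁ h₃

lemma exists_affine_cover (U : X.Opens) :
    ∃ (ι : Type u) (Y : ι → X.Opens) (g : ∀ i, Y i ⟶ U),
      Sieve.ofArrows Y g ∈ Opens.grothendieckTopology X U ∧ ∀ i, Y i ∈ {W : X.Opens | IsAffineOpen W} := by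
  refine ⟨{W : X.Opens // IsAffineOpen W ∧ W ≤ U}, Subtype.val, fun W => homOfLE W.2.2, fun x hx => ?_,
    fun W => W.2.1⟩
  obtain ⟨_, ⟨W, hW, rfl⟩, hxW, hWU⟩ := X.isBasis_affineOpens.exists_subset_of_mem_open hx U.isOpen
  exact ⟨W, homOfLE hWU, Sieve.ofArrows_mk _ _ (⟨W, hW, hWU⟩ : {W : X.Opens // IsAffineOpen W ∧ W ≤ U}), hxW⟩

/-- coverings refine to coverings by affines, which have no higher cohomology -/
lemma affine_cofinal (V : X.Opens) (T : Sieve V) (hT : T ∈ Opens.grothendieckTopology X V) :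
    ∃ (ι : Type u) (Y : ι → X.Opens) (g : ∀ i, Y i ⟶ V), (∀ i, T.arrows (g i)) ∧
      Sieve.ofArrows Y g ∈ Opens.grothendieckTopology X V ∧
      ∀ (i : ι) (F : ModSite.Mod X.sheaf), qc X F → ∀ k : ℕ, 0 < k →
        Subsingleton (ModSite.HU X.sheaf F k (Y i)) := by
  refine ⟨{W : X.Opens // IsAffineOpen W ∧ ∃ h : W ≤ V, T.arrows (homOfLE h)}, Subtype.val,
    fun W => homOfLE W.2.2.1, fun W => W.2.2.2, fun x hx => ?_, fun W F hF k hk => ?_⟩
  · obtain ⟨U, g, hg, hxU⟩ := hT x hx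
    obtain ⟨_, ⟨W, hW, rfl⟩, hxW, hWU⟩ := X.isBasis_affineOpens.exists_subset_of_mem_open hxU U.isOpen
    have hWV : W ≤ V := le_trans hWU g.le
    have hmem : T.arrows (homOfLE hWV) := by
      convert T.downward_closed hg (homOfLE hWU) using 1
      exact Subsingleton.elim _ _
    exact ⟨W, homOfLE hWV, Sieve.ofArrows_mk _ _
      (⟨W, hW, hWV, hmem⟩ : {W : X.Opens // IsAffineOpen W ∧ ∃ h : W ≤ V, T.arrows (homOfLE h)}), hxW⟩
  · haveI : Coh.IsQCoh (X := X) F := hF
    exact CohQC.isAffineOpen_hu_vanish (X := X) F W.2.1 hk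

lemma hasInj (X : Scheme.{u}) : HasInjectiveResolutions X.Modules :=
  haveI := DerPush.isGrothendieckAbelian_modules X
  inferInstance

variable (f : X ⟶ S) [QuasiCompact f] [QuasiSeparated f] [DCoh.HasRpush f]

omit [DCoh.HasRpush f] in
lemma exists_bound [HasInjectiveResolutions X.Modules] [CompactSpace S] :
    ∃ N : ℕ, ∀ M : X.Modules, Coh.IsQCoh M → ∀ p : ℕ, N ≤ p → IsZero ((Coh.Rpush f p).obj M) := by
  obtain ⟨n, hn⟩ := CohQC.exists_locKilled_bound f
  refine ⟨n, fun M hM p hp => ?_⟩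
  obtain ⟨e⟩ := CohQC.toAb_rpush_iso f M p
  have hz : IsZero (Coh.toAb ((Coh.Rpush f p).obj M)) :=
    (SiteCoh.isZero_rpush_of_locKilled (K := _) (u := Opens.map f.base) (hn M hM p hp)).of_iso e
  rw [IsZero.iff_id_eq_zero] at hz ⊢
  exact (SheafOfModules.toSheaf S.ringCatSheaf).map_injective
    (((SheafOfModules.toSheaf S.ringCatSheaf).map_id _).trans
      (hz.trans ((SheafOfModules.toSheaf S.ringCatSheaf).map_zero _ _).symm))

/-- over a quasi-compact base `Rf_*` of `E ∈ D_QCoh` agrees with that of a truncation in high degrees -/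
theorem exists_trunc_bound [CompactSpace S] :
    ∃ N : ℕ, ∀ E : DCoh.D X, DCoh.IsQCohD E → DCoh.IsQCohD ((DCoh.Rpush f).obj E) ∧
      ∀ (n : ℕ) (j : ℤ), (N : ℤ) - (n : ℤ) ≤ j → IsIso ((DerivedCategory.homologyFunctor S.Modules j).map
        ((DCoh.Rpush f).map ((DerivedCategory.TStructure.t.truncGEπ (-(n : ℤ))).app E))) := by
  haveI := hasInj X
  obtain ⟨N, hN⟩ := exists_bound f
  refine ⟨N, fun E hE => ?_⟩
  haveI : HasInjectiveResolutions (ModSite.Mod X.sheaf) := hasInj X
  haveI : SiteCmp.HasRpushD (ModSite.RMor.ofScheme f) := ‹DCoh.HasRpush f›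
  exact RPushSite.cohIn_and_isIso (ModSite.RMor.ofScheme f) (qc X) (qc S)
    (fun F hF p => RPushQC.isQCoh_rpush f F hF p) {W | IsAffineOpen W} {W | IsAffineOpen W}
    exists_affine_cover (fun V _ => ⟨0, affine_cofinal V⟩) exists_affine_cover
    (fun V _ => ⟨0, affine_cofinal V⟩) (N : ℤ) (fun F hF p hp => hN F hF p (by omega)) E hE

end Groth.Agent.DQPush
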