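import Groth.Agent.DQPush.Basic
import Groth.Agent.DQCoh.DerCalc
import Groth.Agent.AcycDef.SumPreserve

/-!
Complexes of quasi-coherent `f_*`-acyclic modules compute `Rf_*`.
-/

set_option autoImplicit false
set_option backward.isDefEq.respectTransparency false
set_option backward.isDefEq.respectTransparency.types false
set_option linter.style.haveILetI false

universe u

open CategoryTheory Limits AlgebraicGeometry Opposite TopologicalSpace

attribute [local instance] HasDerivedCategory.standard

namespace Groth.Agent.DQPush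

variable {X S : Scheme.{u}} (f : X ⟶ S)

instance preservesFiniteLimits_push : PreservesFiniteLimits (Scheme.Modules.pushforward f) :=
  haveI := (Scheme.Modules.pullbackPushforwardAdjunction f).rightAdjoint_preservesLimits
  inferInstance

section Bdd

variable [DCoh.HasRpush f]

/-- the unit on complexes -/
noncomputable abbrev unitQ :=
  AcycDef.unitQ (Scheme.Modules.pushforward f) (DCoh.Rpush f) (DerPush.rpushUnit f)

lemma isIso_unitQ_of_bdd (K : CochainComplex X.Modules ℤ) (a : ℤ) [K.IsStrictlyGE a]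
    [HasInjectiveResolutions X.Modules]
    (hK : ∀ (k : ℤ) (i : ℕ), 0 < i → IsZero ((Coh.Rpush f i).obj (K.X k))) : IsIso ((unitQ f).app K) :=
  haveI := DerPush.isGrothendieckAbelian_modules X
  haveI := DerPush.isGrothendieckAbelian_modules S
  AcycDef.isIso_unitQ_of_bdd (Scheme.Modules.pushforward f) (DCoh.Rpush f) (DerPush.rpushUnit f) K a hK

/-- complexes with quasi-coherent terms have quasi-coherent cohomology -/
lemma isQCoh_homology (K : CochainComplex X.Modules ℤ) (hq : ∀ n, Coh.IsQCoh (K.X n)) (i : ℤ) :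
    Coh.IsQCoh (K.homology i) := by
  have h : Coh.IsQCoh (K.cycles i) :=
    QC.isQCoh_of_iso ((kernelIsKernel _).conePointUniqueUpToIso (K.cyclesIsKernel i (i + 1) (by simp)))
      (QC.isQCoh_kernel (hq i) (hq (i + 1)) (K.d i (i + 1)))
  exact QC.isQCoh_of_iso ((cokernelIsCokernel _).coconePointUniqueUpToIso (K.homologyIsCokernel (i - 1) i (by simp)))
    (QC.isQCoh_cokernel (hq (i - 1)) h (K.toCycles (i - 1) i))

lemma isQCohD_Q (K : CochainComplex X.Modules ℤ) (hq : ∀ n, Coh.IsQCoh (K.X n)) :
    DCoh.IsQCohD (DerivedCategory.Q.obj K) := fun i =>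
  QC.isQCoh_of_iso ((DerivedCategory.homologyFunctorFactors X.Modules i).app K).symm (isQCoh_homology K hq i)

open DQCoh in
/-- over a quasi-compact base -/
theorem isIso_unit_of_compact [QuasiCompact f] [QuasiSeparated f] [CompactSpace S] [HasInjectiveResolutions X.Modules]
    (F : CochainComplex X.Modules ℤ) (hq : ∀ n, Coh.IsQCoh (F.X n))
    (hac : ∀ (n : ℤ) (i : ℕ), 0 < i → IsZero ((Coh.Rpush f i).obj (F.X n))) : IsIso ((unitQ f).app F) := by
  obtain ⟨N, hN⟩ := exists_amplitude f
  rw [DerivedCategory.isIso_iff]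
  intro j
  let a : ℤ := j - (N : ℤ) - 2
  let G := (Scheme.Modules.pushforward f).mapHomologicalComplex (ComplexShape.up ℤ)
  haveI : (σGE F a).IsStrictlyGE a :=
    (CochainComplex.isStrictlyGE_iff _ _).2 fun i hi => isZero_σGE_X F a i hi
  haveI : IsIso ((unitQ f).app (σGE F a)) := isIso_unitQ_of_bdd f _ a fun k i hi => by
    rcases lt_or_ge k a with h | h
    · exact Functor.map_isZero _ (isZero_σGE_X F a k h)
    · haveI := isIso_σι_f F a k h
      exact (hac k i hi).of_iso ((Coh.Rpush f i).mapIso (asIso ((σι F a).f k)))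
  let H := DerivedCategory.homologyFunctor S.Modules j
  have hnat := congrArg H.map ((unitQ f).naturality (σι F a))
  simp only [Functor.map_comp] at hnat
  -- `f_*` of the truncation
  haveI h1 : IsIso (H.map (DerivedCategory.Q.map (G.map (σι F a)))) := by
    have h : MIsoD (a + 1) (DerivedCategory.Q.map (G.map (σι F a))) := by
      obtain ⟨Cn, v, w, hT⟩ := Pretriangulated.distinguished_cocone_triangle (DerivedCategory.Q.map (G.map (σι F a)))
      refine (mIsoD_iff _ _ hT).2 ?_
      haveI : Mono (G.map (σι F a)) := HomologicalComplex.mono_of_mono_f _ fun i =>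
        inferInstanceAs (Mono ((Scheme.Modules.pushforward f).map ((σι F a).f i)))
      have hS : (ShortComplex.mk (G.map (σι F a)) (cokernel.π (G.map (σι F a))) (cokernel.condition _)).ShortExact :=
        { exact := ShortComplex.exact_cokernel _, mono_f := inferInstance, epi_g := inferInstance }
      have hz : IsAboveD a (DerivedCategory.Q.obj (cokernel (G.map (σι F a)))) := fun i hi => by
        refine (ShortComplex.isZero_homology_of_isZero_X₂ _ ?_).of_iso
          ((DerivedCategory.homologyFunctorFactors S.Modules i).app _)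
        haveI := isIso_σι_f F a i hi
        haveI : IsIso ((G.map (σι F a)).f i) :=
          inferInstanceAs (IsIso ((Scheme.Modules.pushforward f).map ((σι F a).f i)))
        exact (hS.map_of_exact (HomologicalComplex.eval _ _ i)).isIso_f_iff.1
          (show IsIso ((G.map (σι F a)).f i) from inferInstance)
      exact isAboveD_mono (by omega) (isAboveD_of_iso
        (Pretriangulated.Triangle.π₃.mapIso (Pretriangulated.isoTriangleOfIso₁₂ _ _
          (DerivedCategory.triangleOfSES_distinguished hS) hT (Iso.refl _) (Iso.refl _) (by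
            simp only [Iso.refl_hom, Category.comp_id, Category.id_comp]; rfl))) hz)
    exact h.1 j (by omega)
  -- `Rf_*` of the truncation
  haveI h2 : IsIso (H.map ((DCoh.Rpush f).map (DerivedCategory.Q.map (σι F a)))) := by
    haveI : SiteCmp.HasRpushD (ModSite.RMor.ofScheme f) := ‹DCoh.HasRpush f›
    let T := DerivedCategory.triangleOfSES (σSeq_shortExact F a)
    obtain ⟨c, hT'⟩ := RPushSite.exists_rpush_triangle (ModSite.RMor.ofScheme f) T.mor₁ T.mor₂ T.mor₃
      (DerivedCategory.triangleOfSES_distinguished (σSeq_shortExact F a))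
    have hQ : DCoh.IsQCohD T.obj₃ := isQCohD_Q _ fun n => by
      rcases lt_or_ge n a with h | h
      · refine QC.isQCoh_of_iso ?_ (hq n)
        have hs := (σSeq_shortExact F a).map_of_exact (HomologicalComplex.eval _ _ n)
        haveI : IsIso ((HomologicalComplex.eval _ _ n).map (σSeq F a).g) :=
          hs.isIso_g_iff.2 (isZero_σGE_X F a n h)
        exact asIso ((HomologicalComplex.eval _ _ n).map (σSeq F a).g)
      · exact DQCoh.isQCoh_of_isZero (isZero_σQuot F a n h)
    haveI hle : T.obj₃.IsLE a := (DerivedCategory.isLE_iff _ a).2 fun i hi =>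
      (ShortComplex.isZero_homology_of_isZero_X₂ _ (isZero_σQuot F a i (by omega))).of_iso
        ((DerivedCategory.homologyFunctorFactors X.Modules i).app (σSeq F a).X₃)
    exact ((mIsoD_iff (a + N) _ hT').2 fun i hi => hN _ hQ a hle i hi).1 j (by omega)
  haveI : IsIso (H.map ((unitQ f).app (σGE F a))) := inferInstance
  haveI h3 : IsIso (H.map ((unitQ f).app (σGE F a)) ≫ H.map ((DCoh.Rpush f).map (DerivedCategory.Q.map (σι F a)))) :=
    inferInstance
  exact @IsIso.of_isIso_fac_left _ _ _ _ _ _ _ _ h1 h3 hnat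

end Bdd

section Global

variable [DCoh.HasRpush f] [QuasiCompact f] [QuasiSeparated f]

/-- a morphism in `D(O_S)` is an isomorphism locally -/
lemma isIso_of_restrict {A B : DCoh.D S} (φ : A ⟶ B)
    (h : ∀ y : S, ∃ V : S.Opens, y ∈ V ∧ IsIso ((DCoh.restrictD V.ι).map φ)) : IsIso φ := by
  rw [DerivedCategory.isIso_iff]
  intro i
  choose V hV hiso using h
  refine QC.isIso_of_restrict_cover (fun y => (V y).ι) (fun y => ⟨y, ⟨⟨y, hV y⟩, rfl⟩⟩) _ fun y => ?_
  haveI := hiso y
  exact (NatIso.isIso_map_iff (DQCoh.homologyDerIso (Scheme.Modules.restrictFunctor (V y).ι) i) φ).1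
    (inferInstanceAs (IsIso ((DerivedCategory.homologyFunctor _ i).map ((DCoh.restrictD (V y).ι).map φ))))

/-- acyclicity restricts to opens of the target -/
lemma acyc_restrict (V : S.Opens) [DCoh.HasRpush (f ∣_ V)] [HasInjectiveResolutions X.Modules]
    [HasInjectiveResolutions (f ⁻¹ᵁ V).toScheme.Modules] {M : X.Modules} {i : ℕ}
    (h : IsZero ((Coh.Rpush f i).obj M)) :
    IsZero ((Coh.Rpush (f ∣_ V) i).obj ((Scheme.Modules.restrictFunctor (f ⁻¹ᵁ V).ι).obj M)) := by
  haveI : SiteCmp.HasRpushD (ModSite.RMor.ofScheme f) := ‹DCoh.HasRpush f›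
  haveI : SiteCmp.HasRpushD (ModSite.RMor.ofScheme (f ∣_ V)) := ‹DCoh.HasRpush (f ∣_ V)›
  haveI : HasInjectiveResolutions (ModSite.Mod X.sheaf) := ‹HasInjectiveResolutions X.Modules›
  haveI : HasInjectiveResolutions (ModSite.Mod (f ⁻¹ᵁ V).toScheme.sheaf) :=
    ‹HasInjectiveResolutions (f ⁻¹ᵁ V).toScheme.Modules›
  obtain ⟨e₁⟩ := RPushSite.nonempty_homology_single (ModSite.RMor.ofScheme f) M i
  obtain ⟨e₂⟩ := RPushSite.nonempty_homology_single (ModSite.RMor.ofScheme (f ∣_ V))
    ((Scheme.Modules.restrictFunctor (f ⁻¹ᵁ V).ι).obj M) i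
  refine (IsZero.of_iso ?_ e₂.symm)
  refine IsZero.of_iso ((Scheme.Modules.restrictFunctor V.ι).map_isZero (h.of_iso e₁)) ?_
  exact (DerivedCategory.homologyFunctor _ (i : ℤ)).mapIso
      ((DCoh.Rpush (f ∣_ V)).mapIso
        (((Scheme.Modules.restrictFunctor (f ⁻¹ᵁ V).ι).mapDerivedCategorySingleFunctor 0).app M).symm ≪≫
          ((rpushRestrIso f V).app _).symm) ≪≫
    (DQCoh.homologyDerIso (Scheme.Modules.restrictFunctor V.ι) (i : ℤ)).app _

/-- complexes of quasi-coherent acyclic modules compute `Rf_*` -/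
theorem isIso_unit_of_acyclic [HasInjectiveResolutions X.Modules] (F : CochainComplex X.Modules ℤ)
    (hq : ∀ n, Coh.IsQCoh (F.X n))
    (hac : ∀ (n : ℤ) (i : ℕ), 0 < i → IsZero ((Coh.Rpush f i).obj (F.X n))) :
    IsIso ((DerPush.rpushUnit f).app ((HomotopyCategory.quotient X.Modules (ComplexShape.up ℤ)).obj F)) := by
  refine isIso_of_restrict _ fun y => ?_
  obtain ⟨_, ⟨(V : S.Opens), hV, rfl⟩, hyV, -⟩ :=
    S.isBasis_affineOpens.exists_subset_of_mem_open (Set.mem_univ y) isOpen_univ
  haveI : CompactSpace (V : S.Opens).toScheme := isCompact_iff_compactSpace.1 hV.isCompact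
  haveI := DerPush.hasRpush_sch (f ∣_ V)
  haveI := hasInj (f ⁻¹ᵁ V).toScheme
  haveI := DerPush.isGrothendieckAbelian_modules (f ⁻¹ᵁ V).toScheme
  haveI := DerPush.isGrothendieckAbelian_modules V.toScheme
  refine ⟨V, hyV, (isIso_unit_restrict_iff f V _).2 ?_⟩
  exact (AcycDef.isIso_unitQ_iff _ _ _ _).1 (isIso_unit_of_compact (f ∣_ V)
    (((Scheme.Modules.restrictFunctor (f ⁻¹ᵁ V).ι).mapHomologicalComplex (ComplexShape.up ℤ)).obj F)
    (fun n => QC.isQCoh_restrict _ (hq n)) fun n i hi => acyc_restrict f V (hac n i hi))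

end Global

section Affine

variable [IsAffineHom f]

/-- quasi-coherent modules are acyclic for affine morphisms -/
lemma isZero_rpush_of_affine [HasInjectiveResolutions X.Modules] (M : X.Modules) (hM : Coh.IsQCoh M) {i : ℕ}
    (hi : 0 < i) : IsZero ((Coh.Rpush f i).obj M) := by
  haveI := hM
  obtain ⟨e⟩ := CohQC.toAb_rpush_iso f M i
  have hz : IsZero (Coh.toAb ((Coh.Rpush f i).obj M)) :=
    (SiteCoh.isZero_rpush_of_locKilled (K := _) (u := Opens.map f.base)
      (CohQC.locKilled_of_isAffineHom f M hi)).of_iso e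
  rw [IsZero.iff_id_eq_zero] at hz ⊢
  exact (SheafOfModules.toSheaf S.ringCatSheaf).map_injective
    (((SheafOfModules.toSheaf S.ringCatSheaf).map_id _).trans
      (hz.trans ((SheafOfModules.toSheaf S.ringCatSheaf).map_zero _ _).symm))

variable [DCoh.HasRpush f]

/-- for affine morphisms, `f_*` computes `Rf_*` on complexes of quasi-coherent modules -/
theorem isIso_unit_of_affine (F : CochainComplex X.Modules ℤ) (hq : ∀ n, Coh.IsQCoh (F.X n)) :
    IsIso ((DerPush.rpushUnit f).app ((HomotopyCategory.quotient X.Modules (ComplexShape.up ℤ)).obj F)) :=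
  haveI := hasInj X
  isIso_unit_of_acyclic f F hq fun n _ hi => isZero_rpush_of_affine f _ (hq n) hi

end Affine

end Groth.Agent.DQPush
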