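import Groth.Agent.TopQC.Colim
import Groth.Agent.KFlat.SchemeStalk
import Groth.Agent.RPushQC.Resolution
import Groth.Agent.DerPush.Basic
import Groth.Agent.CohQC.RpushModules
import Groth.Agent.CohQC.Relative
import Groth.Agent.SiteCoh.ClosedPush
import Groth.Agent.QC.Closure

/-!
Modules which are flasque on quasi-compact opens; direct images commute with directed colimits.
-/

set_option autoImplicit false
set_option backward.isDefEq.respectTransparency false
set_option backward.isDefEq.respectTransparency.types false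
set_option linter.style.haveILetI false

universe u

open CategoryTheory Limits AlgebraicGeometry Opposite TopologicalSpace

namespace Groth.Agent.DQPush

variable {X S : Scheme.{u}}

open QC in
/-- isomorphisms of modules are checked on affine opens -/
theorem isIso_of_bijective_affine {M N : X.Modules} (φ : M ⟶ N)
    (h : ∀ W : X.Opens, IsAffineOpen W → Function.Bijective (φ.app W)) : IsIso φ := by
  have hinj : ∀ W, Function.Injective (φ.app W) := fun W s t hst =>
    section_eq_of_locally fun x hx => by
      obtain ⟨_, ⟨(V : X.Opens), hV, rfl⟩, hxV, hVW⟩ :=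
        X.isBasis_affineOpens.exists_subset_of_mem_open hx W.isOpen
      exact ⟨V, hVW, hxV, (h V hV).1 (by rw [← app_res, ← app_res, hst])⟩
  rw [Scheme.Modules.Hom.isIso_iff_isIso_app]
  intro W
  rw [ConcreteCategory.isIso_iff_bijective]
  refine ⟨hinj W, fun t => ?_⟩
  have hx : ∀ x : W, ∃ (V : X.Opens) (hV : V ≤ W), x.1 ∈ V ∧ ∃ s, φ.app V s = res N hV t := fun x => by
    obtain ⟨_, ⟨(V : X.Opens), hV, rfl⟩, hxV, hVW⟩ :=
      X.isBasis_affineOpens.exists_subset_of_mem_open x.2 W.isOpen
    exact ⟨V, hVW, hxV, (h V hV).2 _⟩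
  choose V hVW hxV s hs using hx
  obtain ⟨a, ha, -⟩ := TopCat.Sheaf.existsUnique_gluing' (abSheaf M) V W (fun x => homOfLE (hVW x))
    (fun x hx => Opens.mem_iSup.mpr ⟨⟨x, hx⟩, hxV ⟨x, hx⟩⟩) s (fun x y => by
      refine hinj _ ?_
      change φ.app _ (res M (inf_le_left : V x ⊓ V y ≤ V x) (s x)) =
        φ.app _ (res M (inf_le_right : V x ⊓ V y ≤ V y) (s y))
      rw [← app_res, ← app_res, hs, hs, res_res, res_res])
  refine ⟨a, section_eq_of_locally fun x hx => ⟨V ⟨x, hx⟩, hVW _, hxV _, ?_⟩⟩
  rw [app_res, show res M (hVW ⟨x, hx⟩) a = s ⟨x, hx⟩ from ha ⟨x, hx⟩]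
  exact hs _

/-- qc-flasque modules -/
def QF (M : X.Modules) : Prop := TopQC.IsQcFlasque (X := X.toTopCat) (Coh.toAb M)

lemma qf_of_injective (I : X.Modules) [Injective I] : QF I :=
  haveI := RPushQC.isFlasque_toAb (RPushQC.isFlasque_of_injective I)
  TopQC.isQcFlasque_of_flasque (X := X.toTopCat) _

section Colim

variable [QuasiSeparatedSpace X] {ι : Type u} [Preorder ι] [IsDirected ι (· ≤ ·)] [Nonempty ι]

lemma qf_colimit {F : ι ⥤ X.Modules} {c : Cocone F} (hc : IsColimit c) (hF : ∀ i, QF (F.obj i)) : QF c.pt :=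
  TopQC.isQcFlasque_colimit (isColimitOfPreserves (SheafOfModules.toSheaf.{u} X.ringCatSheaf) hc) hF

/-- direct images along quasi-compact maps preserve directed colimits -/
theorem preservesColimitsOfShape_push (f : X ⟶ S) [QuasiCompact f] [QuasiSeparatedSpace S] :
    PreservesColimitsOfShape ι (Scheme.Modules.pushforward f) := by
  refine ⟨fun {F} => preservesColimit_of_preserves_colimit_cocone (colimit.isColimit F) ?_⟩
  let G := Scheme.Modules.pushforward f
  let cX := (SheafOfModules.toSheaf.{u} X.ringCatSheaf).mapCocone (colimit.cocone F)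
  have hX : IsColimit cX := isColimitOfPreserves _ (colimit.isColimit F)
  let cS := (SheafOfModules.toSheaf.{u} S.ringCatSheaf).mapCocone (colimit.cocone (F ⋙ G))
  have hS : IsColimit cS := isColimitOfPreserves _ (colimit.isColimit (F ⋙ G))
  let φ := colimit.desc (F ⋙ G) (G.mapCocone (colimit.cocone F))
  haveI : IsIso φ := by
    refine isIso_of_bijective_affine φ fun W hW => ⟨?_, fun t => ?_⟩
    · refine (injective_iff_map_eq_zero (φ.app W).hom).2 fun t ht => ?_
      obtain ⟨i, s, hs⟩ := TopQC.exists_preimage hS W hW.isCompact t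
      subst hs
      have hcpt : IsCompact ((f ⁻¹ᵁ W : X.Opens) : Set X) := f.isCompact_preimage hW.isCompact
      have h0 : (colimit.ι F i).app (f ⁻¹ᵁ W) s = 0 := by
        refine Eq.trans ?_ ht
        change _ = ((colimit.ι (F ⋙ G) i) ≫ φ).app W s
        rw [colimit.ι_desc]
        rfl
      obtain ⟨j, hij, hj⟩ := TopQC.exists_eq_zero hX (f ⁻¹ᵁ W) hcpt i s h0
      refine (TopQC.cocone_apply (c := cS) hij W s).symm.trans ?_
      exact (congrArg _ hj).trans (map_zero _)
    · have hcpt : IsCompact ((f ⁻¹ᵁ W : X.Opens) : Set X) := f.isCompact_preimage hW.isCompact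
      obtain ⟨i, s, hs⟩ := TopQC.exists_preimage hX (f ⁻¹ᵁ W) hcpt t
      refine ⟨(colimit.ι (F ⋙ G) i).app W s, ?_⟩
      change ((colimit.ι (F ⋙ G) i) ≫ φ).app W s = t
      rw [colimit.ι_desc]
      exact hs
  exact IsColimit.ofIsoColimit (colimit.isColimit (F ⋙ G)) (Cocone.ext (asIso φ) fun i => colimit.ι_desc _ _)

end Colim

section Coprod

variable [QuasiSeparatedSpace X]

open scoped Classical in
lemma qf_coprod_injective {κ : Type u} (I : κ → X.Modules) (hI : ∀ k, Injective (I k)) : QF (∐ I) := by
  refine qf_colimit (CoproductsFromFiniteFiltered.isColimitFiniteSubproductsCocone I) fun T => ?_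
  haveI : ∀ x : T, Injective (I x.1.as) := fun x => hI _
  haveI : Fintype T := FinsetCoe.fintype T
  haveI := HasBiproduct.of_hasCoproduct fun x : T => I x.1.as
  haveI : Injective (⨁ fun x : T => I x.1.as) := inferInstance
  haveI h' : Injective (∐ fun x : T => I x.1.as) :=
    Injective.of_iso (biproduct.isoCoproduct (fun x : T => I x.1.as)) inferInstance
  haveI : Injective ((CoproductsFromFiniteFiltered.liftToFinsetObj (Discrete.functor I)).obj T) := h'
  exact qf_of_injective _

open scoped Classical in
/-- direct images along quasi-compact maps preserve coproducts -/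
theorem preservesCoproducts_push (f : X ⟶ S) [QuasiCompact f] [QuasiSeparatedSpace S] (κ : Type u) :
    PreservesColimitsOfShape (Discrete κ) (Scheme.Modules.pushforward f) := by
  let L := Scheme.Modules.pushforward f
  haveI : PreservesFiniteCoproducts L := inferInstance
  haveI := preservesColimitsOfShape_push (ι := Finset (Discrete κ)) f
  refine ⟨fun {K} => ?_⟩
  let g : κ → X.Modules := fun i => K.obj ⟨i⟩
  suffices IsIso (sigmaComparison L g) by
    haveI : PreservesColimit (Discrete.functor g) L := PreservesCoproduct.of_iso_comparison L g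
    exact preservesColimit_of_iso_diagram _ (Discrete.natIso (fun _ => Iso.refl _) : Discrete.functor g ≅ K)
  let h1 := CoproductsFromFiniteFiltered.isColimitFiniteSubproductsCocone g
  let h2 := CoproductsFromFiniteFiltered.isColimitFiniteSubproductsCocone (fun i => L.obj (g i))
  let e : CoproductsFromFiniteFiltered.liftToFinsetObj (Discrete.functor fun i => L.obj (g i)) ≅
      CoproductsFromFiniteFiltered.liftToFinsetObj (Discrete.functor g) ⋙ L :=
    NatIso.ofComponents (fun T => (PreservesCoproduct.iso L fun x : T => g x.1.as).symm) fun {T U} h => by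
      refine Sigma.hom_ext _ _ fun x => ?_
      simp [← Functor.map_comp]
  let E := h2.coconePointsIsoOfNatIso (isColimitOfPreserves L h1) e
  suffices sigmaComparison L g = E.hom by rw [this]; infer_instance
  refine Sigma.hom_ext _ _ fun i => ?_
  rw [ι_comp_sigmaComparison]
  have := IsColimit.comp_coconePointsIsoOfNatIso_hom h2 (isColimitOfPreserves L h1) e {⟨i⟩}
  have hι : Sigma.ι (fun x : ({⟨i⟩} : Finset (Discrete κ)) => L.obj (g x.1.as)) ⟨⟨i⟩, Finset.mem_singleton_self _⟩ ≫
      (CoproductsFromFiniteFiltered.finiteSubcoproductsCocone fun i => L.obj (g i)).ι.app {⟨i⟩} =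
        Sigma.ι (fun i => L.obj (g i)) i := by simp
  rw [← hι, Category.assoc]
  refine Eq.symm (Eq.trans (congrArg (fun m => Sigma.ι (fun x : ({⟨i⟩} : Finset (Discrete κ)) => L.obj (g x.1.as))
    ⟨⟨i⟩, Finset.mem_singleton_self _⟩ ≫ m) this) ?_)
  simp [e, ← Functor.map_comp]

end Coprod

/-- qc-flasque modules are acyclic for quasi-compact maps -/
theorem isZero_rpush_of_qf [QuasiSeparatedSpace X] (f : X ⟶ S) [QuasiCompact f]
    [HasInjectiveResolutions X.Modules] {M : X.Modules} (hM : QF M) {i : ℕ} (hi : 0 < i) :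
    IsZero ((Coh.Rpush f i).obj M) := by
  obtain ⟨j, rfl⟩ : ∃ j, i = j + 1 := ⟨i - 1, by omega⟩
  obtain ⟨e⟩ := CohQC.toAb_rpush_iso f M (j + 1)
  haveI : PrespectralSpace X.toTopCat := inferInstanceAs (PrespectralSpace X)
  haveI : QuasiSeparatedSpace X.toTopCat := inferInstanceAs (QuasiSeparatedSpace X)
  have hk := CohQC.locKilled_of_basis f.base (Coh.toAb M) (j + 1) {W | IsAffineOpen (X := S) W}
    (fun V y hy => CohQC.exists_affine_le V y hy)
    (fun W hW => TopQC.subsingleton_HU_of_isQcFlasque (X := X.toTopCat) j _ hM (f ⁻¹ᵁ W)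
      (f.isCompact_preimage hW.isCompact))
  have hz : IsZero (Coh.toAb ((Coh.Rpush f (j + 1)).obj M)) :=
    (SiteCoh.isZero_rpush_of_locKilled (K := _) (u := Opens.map f.base) hk).of_iso e
  rw [IsZero.iff_id_eq_zero] at hz ⊢
  exact (SheafOfModules.toSheaf S.ringCatSheaf).map_injective
    (((SheafOfModules.toSheaf S.ringCatSheaf).map_id _).trans
      (hz.trans ((SheafOfModules.toSheaf S.ringCatSheaf).map_zero _ _).symm))

end Groth.Agent.DQPush
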