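import Groth.Agent.DQPush.HomColim
import Groth.Agent.DQPush.QcFlasque
import Groth.Agent.DQPush.Acyclic

/-!
`Rf_*` and coproducts.
-/

set_option autoImplicit false
set_option backward.isDefEq.respectTransparency false
set_option backward.isDefEq.respectTransparency.types false
set_option linter.style.haveILetI false

universe u

open CategoryTheory Limits AlgebraicGeometry Opposite TopologicalSpace Pretriangulated

attribute [local instance] HasDerivedCategory.standard

namespace Groth.Agent.DQPush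

variable {X S : Scheme.{u}} {ι : Type u}

/-- coproducts in `D(O_X)` from complexes -/
theorem exists_coprod_cofan (K : ι → DCoh.D X) (C : ι → CochainComplex X.Modules ℤ)
    (e : ∀ t, DerivedCategory.Q.obj (C t) ≅ K t) :
    Nonempty (IsColimit (Cofan.mk (DerivedCategory.Q.obj (∐ C)) fun t => (e t).inv ≫ DerivedCategory.Q.map (Sigma.ι C t))) := by
  obtain ⟨h⟩ := DQCoh.nonempty_isColimit_Q_coprod DQCoh.exists_kInj C
  exact ⟨Cofan.IsColimit.mk _ (fun s => Cofan.IsColimit.desc h fun t => (e t).hom ≫ s.inj t)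
    (fun s t => by
      change ((e t).inv ≫ DerivedCategory.Q.map (Sigma.ι C t)) ≫ _ = _
      rw [Category.assoc]
      exact (congrArg ((e t).inv ≫ ·) (Cofan.IsColimit.fac h _ t)).trans (Iso.inv_hom_id_assoc _ _))
    fun s m hm => Cofan.IsColimit.hom_ext h _ _ fun t => by
      refine Eq.trans ?_ (Cofan.IsColimit.fac h _ t).symm
      rw [← hm t]
      exact ((Iso.hom_inv_id_assoc (e t) _).symm).trans (congrArg ((e t).hom ≫ ·) (Category.assoc _ _ _).symm)⟩

lemma hasCoproducts_D (X : Scheme.{u}) (ι : Type u) : HasColimitsOfShape (Discrete ι) (DCoh.D X) := by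
  refine ⟨fun K => ?_⟩
  obtain ⟨h⟩ := exists_coprod_cofan (fun t => K.obj ⟨t⟩)
    (fun t => DerivedCategory.Q.objPreimage (K.obj ⟨t⟩)) fun t => DerivedCategory.Q.objObjPreimageIso _
  haveI : HasColimit (Discrete.functor fun t => K.obj ⟨t⟩) := ⟨⟨_, h⟩⟩
  exact hasColimit_of_iso (Discrete.natIso fun _ => Iso.refl _ : K ≅ Discrete.functor fun t => K.obj ⟨t⟩)

/-- cohomology sheaves of coproducts -/
theorem preservesCoproducts_HD (i : ℤ) :
    PreservesColimitsOfShape (Discrete ι) (DerivedCategory.homologyFunctor X.Modules i) := by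
  refine ⟨fun {K} => ?_⟩
  haveI := DQCoh.hasExactColimits_discrete (X := X) ι
  haveI := preservesColimitsOfShape_homology (A := X.Modules) (J := Discrete ι) (ComplexShape.up ℤ) i
  let C := fun t => (DerivedCategory.Q (C := X.Modules)).objPreimage (K.obj ⟨t⟩)
  obtain ⟨hQ⟩ := DQCoh.nonempty_isColimit_Q_coprod DQCoh.exists_kInj C
  let e : K ≅ Discrete.functor fun t => DerivedCategory.Q.obj (C t) :=
    Discrete.natIso fun t => ((DerivedCategory.Q (C := X.Modules)).objObjPreimageIso (K.obj t)).symm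
  have h' := isColimitCofanMkObjOfIsColimit (HomologicalComplex.homologyFunctor X.Modules (ComplexShape.up ℤ) i) C _
    (coproductIsCoproduct C)
  let F := DerivedCategory.homologyFunctorFactors X.Modules i
  haveI : PreservesColimit (Discrete.functor fun t => DerivedCategory.Q.obj (C t))
      (DerivedCategory.homologyFunctor X.Modules i) := by
    refine preservesColimit_of_preserves_colimit_cocone hQ ((IsColimit.precomposeHomEquiv
      (Discrete.natIso fun t => (F.app (C t.as)).symm :
        Discrete.functor (fun t => (C t).homology i) ≅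
          (Discrete.functor fun t => DerivedCategory.Q.obj (C t)) ⋙ DerivedCategory.homologyFunctor X.Modules i) _).1 ?_)
    refine IsColimit.ofIsoColimit h' (Cocone.ext (F.app (∐ C)).symm fun t => ?_)
    exact F.inv.naturality (Sigma.ι C t.as)
  exact preservesColimit_of_iso_diagram _ e.symm

/-- exact functors preserving coproducts of modules preserve coproducts in `D` -/
theorem preservesCoproducts_restrictD {U : Scheme.{u}} (j : U ⟶ X) [IsOpenImmersion j] :
    PreservesColimitsOfShape (Discrete ι) (DCoh.restrictD j) := by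
  refine ⟨fun {K} => ?_⟩
  let R := Scheme.Modules.restrictFunctor j
  let RC := R.mapHomologicalComplex (ComplexShape.up ℤ)
  haveI : PreservesColimitsOfSize.{u, u} R := (Scheme.Modules.restrictAdjunction j).leftAdjoint_preservesColimits
  let C := fun t => (DerivedCategory.Q (C := X.Modules)).objPreimage (K.obj ⟨t⟩)
  obtain ⟨hQ⟩ := DQCoh.nonempty_isColimit_Q_coprod DQCoh.exists_kInj C
  obtain ⟨hQ'⟩ := DQCoh.nonempty_isColimit_Q_coprod DQCoh.exists_kInj fun t => RC.obj (C t)
  haveI : PreservesColimitsOfShape (Discrete ι) RC :=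
    ⟨fun {D} => ⟨fun hc => ⟨HomologicalComplex.isColimitOfEval _ _ fun n =>
      isColimitOfPreserves (HomologicalComplex.eval X.Modules (ComplexShape.up ℤ) n ⋙ R) hc⟩⟩⟩
  let e : K ≅ Discrete.functor fun t => DerivedCategory.Q.obj (C t) :=
    Discrete.natIso fun t => ((DerivedCategory.Q (C := X.Modules)).objObjPreimageIso (K.obj t)).symm
  let F := R.mapDerivedCategoryFactors
  haveI : PreservesColimit (Discrete.functor fun t => DerivedCategory.Q.obj (C t)) (DCoh.restrictD j) := by
    refine preservesColimit_of_preserves_colimit_cocone hQ ((IsColimit.precomposeHomEquiv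
      (Discrete.natIso fun t => (F.app (C t.as)).symm :
        Discrete.functor (fun t => DerivedCategory.Q.obj (RC.obj (C t))) ≅
          (Discrete.functor fun t => DerivedCategory.Q.obj (C t)) ⋙ DCoh.restrictD j) _).1 ?_)
    refine IsColimit.ofIsoColimit hQ' (Cocone.ext (DerivedCategory.Q.mapIso (PreservesCoproduct.iso RC C).symm ≪≫
      (F.app (∐ C)).symm) fun t => ?_)
    have h1 : Sigma.ι (fun t => RC.obj (C t)) t.as ≫ (PreservesCoproduct.iso RC C).inv = RC.map (Sigma.ι C t.as) := by
      simp [PreservesCoproduct.iso]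
    change DerivedCategory.Q.map (Sigma.ι (fun t => RC.obj (C t)) t.as) ≫
      (DerivedCategory.Q.map (PreservesCoproduct.iso RC C).inv ≫ F.inv.app _) = F.inv.app _ ≫ _
    rw [← Functor.map_comp_assoc, h1]
    exact F.inv.naturality (Sigma.ι C t.as)
  exact preservesColimit_of_iso_diagram _ e.symm

variable (f : X ⟶ S) [DCoh.HasRpush f]

/-- bounded below case, quasi-separated quasi-compact base -/
theorem preservesColimit_rpush_bdd [QuasiCompact f] [QuasiSeparatedSpace X] [QuasiSeparatedSpace S]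
    (K : ι → DCoh.D X) (n : ℤ) (hK : ∀ t, (K t).IsGE n) : PreservesColimit (Discrete.functor K) (DCoh.Rpush f) := by
  haveI := DerPush.isGrothendieckAbelian_modules X
  haveI := hasInj X
  have hrep : ∀ t, ∃ I : CochainComplex X.Modules ℤ, I.IsStrictlyGE n ∧ (∀ k, Injective (I.X k)) ∧
      Nonempty (DerivedCategory.Q.obj I ≅ K t) := fun t => by
    haveI := hK t
    let C := (DerivedCategory.Q (C := X.Modules)).objPreimage (K t)
    let eC : DerivedCategory.Q.obj C ≅ K t := DerivedCategory.Q.objObjPreimageIso (K t)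
    haveI : C.IsGE n := (DerivedCategory.isGE_Q_obj_iff C n).1 (DerivedCategory.TStructure.t.isGE_of_iso eC.symm n)
    obtain ⟨I, s, hs, hI, hGE⟩ := CochainComplex.Plus.modelCategoryQuillen.exists_quasiIso_injective (C.truncGE n) n
    haveI := hs
    exact ⟨I, hGE, hI, ⟨(asIso (DerivedCategory.Q.map (C.πTruncGE n ≫ s))).symm ≪≫ eC⟩⟩
  choose I hGE hI he using hrep
  obtain ⟨hc⟩ := exists_coprod_cofan K I fun t => (he t).some
  haveI := preservesCoproducts_push f ι
  let FC := (Scheme.Modules.pushforward f).mapHomologicalComplex (ComplexShape.up ℤ)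
  haveI : PreservesColimitsOfShape (Discrete ι) FC :=
    ⟨fun {D} => ⟨fun hc => ⟨HomologicalComplex.isColimitOfEval _ _ fun k =>
      isColimitOfPreserves (HomologicalComplex.eval X.Modules (ComplexShape.up ℤ) k ⋙ Scheme.Modules.pushforward f) hc⟩⟩⟩
  let ev := fun k => HomologicalComplex.eval X.Modules (ComplexShape.up ℤ) k
  let col := fun k => isColimitCofanMkObjOfIsColimit (ev k) _ _ (coproductIsCoproduct I)
  haveI : (∐ I).IsStrictlyGE n := (CochainComplex.isStrictlyGE_iff _ _).2 fun k hk => by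
    rw [IsZero.iff_id_eq_zero]
    exact Cofan.IsColimit.hom_ext (col k) _ _ fun t =>
      ((haveI := hGE t; (I t).isZero_of_isStrictlyGE n k hk)).eq_of_src _ _
  have hu : IsIso ((unitQ f).app (∐ I)) := isIso_unitQ_of_bdd f _ n fun k i hi => by
    have hq : QF ((∐ I).X k) := by
      let e : (∐ fun t => (I t).X k) ≅ (∐ I).X k := (coproductIsCoproduct _).coconePointUniqueUpToIso (col k)
      have h0 := qf_coprod_injective (fun t => (I t).X k) fun t => hI t k
      intro U V hU hV h x
      obtain ⟨y, hy⟩ := h0 U V hU hV h (((SheafOfModules.toSheaf X.ringCatSheaf).map e.inv).hom.app (op V) x)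
      refine ⟨((SheafOfModules.toSheaf X.ringCatSheaf).map e.hom).hom.app (op U) y, ?_⟩
      refine (NatTrans.naturality_apply ((SheafOfModules.toSheaf X.ringCatSheaf).map e.hom).hom (homOfLE h).op y).symm.trans ?_
      rw [hy]
      change (((SheafOfModules.toSheaf X.ringCatSheaf).map e.inv) ≫ ((SheafOfModules.toSheaf X.ringCatSheaf).map e.hom)).hom.app (op V) x = x
      rw [← Functor.map_comp, e.inv_hom_id, CategoryTheory.Functor.map_id]
      rfl
    exact isZero_rpush_of_qf f hq hi
  obtain ⟨hS⟩ := DQCoh.nonempty_isColimit_Q_coprod DQCoh.exists_kInj fun t => FC.obj (I t)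
  haveI := fun t => isIso_unitQ_of_bdd f (I t) n fun k i hi =>
    isZero_rpush_of_qf f (haveI := hI t k; qf_of_injective _) hi
  refine preservesColimit_of_preserves_colimit_cocone hc ((IsColimit.precomposeHomEquiv
    (Discrete.natIso fun t => asIso ((unitQ f).app (I t.as)) ≪≫ (DCoh.Rpush f).mapIso (he t.as).some :
      Discrete.functor (fun t => DerivedCategory.Q.obj (FC.obj (I t))) ≅ Discrete.functor K ⋙ DCoh.Rpush f) _).1 ?_)
  haveI := hu
  refine IsColimit.ofIsoColimit hS (Cocone.ext (DerivedCategory.Q.mapIso (PreservesCoproduct.iso FC I).symm ≪≫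
    asIso ((unitQ f).app (∐ I))) fun t => ?_)
  have h1 : Sigma.ι (fun t => FC.obj (I t)) t.as ≫ (PreservesCoproduct.iso FC I).inv = FC.map (Sigma.ι I t.as) := by
    simp [PreservesCoproduct.iso]
  change DerivedCategory.Q.map (Sigma.ι (fun t => FC.obj (I t)) t.as) ≫
      (DerivedCategory.Q.map (PreservesCoproduct.iso FC I).inv ≫ (unitQ f).app _) =
    ((unitQ f).app (I t.as) ≫ (DCoh.Rpush f).map (he t.as).some.hom) ≫
      (DCoh.Rpush f).map ((he t.as).some.inv ≫ DerivedCategory.Q.map (Sigma.ι I t.as))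
  rw [← Functor.map_comp_assoc, h1, Category.assoc, ← Functor.map_comp, Iso.hom_inv_id_assoc]
  exact (unitQ f).naturality (Sigma.ι I t.as)

lemma sigmaComparison_natural {C D : Type*} [Category C] [Category D] (G : C ⥤ D) {κ : Type*} {K T : κ → C}
    [HasCoproduct K] [HasCoproduct T] [HasCoproduct fun i => G.obj (K i)] [HasCoproduct fun i => G.obj (T i)]
    (p : ∀ i, K i ⟶ T i) :
    sigmaComparison G K ≫ G.map (Limits.Sigma.map p) = Limits.Sigma.map (fun i => G.map (p i)) ≫ sigmaComparison G T := by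
  refine Limits.Sigma.hom_ext _ _ fun i => ?_
  rw [ι_comp_sigmaComparison_assoc, ← Functor.map_comp, Limits.Sigma.ι_map, Limits.Sigma.ι_map_assoc,
    ι_comp_sigmaComparison, Functor.map_comp]

section QCoh

variable [QuasiCompact f] [QuasiSeparated f]

open DQCoh in
/-- `D_QCoh` case, quasi-compact quasi-separated base -/
theorem preservesColimit_rpush_qcoh [CompactSpace S] [QuasiSeparatedSpace X] [QuasiSeparatedSpace S]
    (K : ι → DCoh.D X) (hK : ∀ t, DCoh.IsQCohD (K t)) : PreservesColimit (Discrete.functor K) (DCoh.Rpush f) := by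
  haveI : SiteCmp.HasRpushD (ModSite.RMor.ofScheme f) := ‹DCoh.HasRpush f›
  haveI := hasCoproducts_D X ι
  haveI := hasCoproducts_D S ι
  obtain ⟨N, hN⟩ := exists_amplitude f
  suffices IsIso (sigmaComparison (DCoh.Rpush f) K) by
    exact PreservesCoproduct.of_iso_comparison (DCoh.Rpush f) K
  rw [DerivedCategory.isIso_iff]
  intro j
  let t : Triangulated.TStructure (DCoh.D X) := DerivedCategory.TStructure.t
  let n : ℤ := j - (N : ℤ) - 2
  let T : ι → DCoh.D X := fun i => (t.truncGE n).obj (K i)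
  haveI hT : ∀ i, (T i).IsGE n := fun i => t.isGE_truncGE_obj (K i) n n le_rfl
  haveI := preservesColimit_rpush_bdd f T n hT
  let ψ : (∐ K) ⟶ ∐ T := Limits.Sigma.map fun i => (t.truncGEπ n).app (K i)
  let H := DerivedCategory.homologyFunctor S.Modules j
  -- a map inducing isomorphisms in degrees `≥ n` does so after `Rf_*` in degree `j`
  have key : ∀ {A B : DCoh.D X} (φ : A ⟶ B), DCoh.IsQCohD A → DCoh.IsQCohD B →
      (∀ i, n ≤ i → IsIso ((DerivedCategory.homologyFunctor X.Modules i).map φ)) →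
        IsIso (H.map ((DCoh.Rpush f).map φ)) := by
    intro A B φ hA hB hφ
    obtain ⟨C, v, w, hT⟩ := Pretriangulated.distinguished_cocone_triangle φ
    obtain ⟨c, hT'⟩ := RPushSite.exists_rpush_triangle (ModSite.RMor.ofScheme f) _ _ _ hT
    have hC : DCoh.IsQCohD C := fun i => isQCoh_of_exact₅ _ _ _ _ _ _ _
      (DerivedCategory.HomologySequence.exact₂ _ hT i)
      (DerivedCategory.HomologySequence.exact₃ _ hT i (i + 1) rfl)
      (DerivedCategory.HomologySequence.exact₁ _ hT i (i + 1) rfl) (hA i) (hB i) (hA (i + 1)) (hB (i + 1))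
    have hm : MIsoD n φ := ⟨fun i hi => hφ i hi.le, haveI := hφ n le_rfl; inferInstance⟩
    have hab : IsAboveD n C := (mIsoD_iff n _ hT).1 hm
    haveI : C.IsLE (n - 1) := (DerivedCategory.isLE_iff _ _).2 fun i hi => hab i (by omega)
    exact ((mIsoD_iff (n - 1 + N) _ hT').2 fun i hi => hN _ hC (n - 1) inferInstance i hi).1 j (by omega)
  have hTq : ∀ i, DCoh.IsQCohD (T i) := fun i m => by
    rcases lt_or_ge m n with h | h
    · exact DQCoh.isQCoh_of_isZero ((DerivedCategory.isGE_iff _ n).1 (hT i) m h)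
    · have := HDU.isIso_H_truncGEπ (K i) n m h
      exact QC.isQCoh_of_iso (asIso ((DerivedCategory.homologyFunctor X.Modules m).map ((t.truncGEπ n).app (K i)))) (hK i m)
  haveI hψ : IsIso (H.map ((DCoh.Rpush f).map ψ)) := key ψ (DQCoh.isQCohD_coproduct K hK)
      (DQCoh.isQCohD_coproduct T hTq) fun m hm => by
    let Hm := DerivedCategory.homologyFunctor X.Modules m
    haveI := preservesCoproducts_HD (X := X) (ι := ι) m
    haveI : ∀ i, IsIso (Hm.map ((t.truncGEπ n).app (K i))) := fun i => HDU.isIso_H_truncGEπ (K i) n m hm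
    have hsq : sigmaComparison Hm K ≫ Hm.map ψ =
        Limits.Sigma.map (fun i => Hm.map ((t.truncGEπ n).app (K i))) ≫ sigmaComparison Hm T :=
      sigmaComparison_natural Hm fun i => (t.truncGEπ n).app (K i)
    exact IsIso.of_isIso_fac_left hsq
  haveI hψ' : ∀ i, IsIso (H.map ((DCoh.Rpush f).map ((t.truncGEπ n).app (K i)))) := fun i =>
    key _ (hK i) (hTq i) fun m hm => HDU.isIso_H_truncGEπ (K i) n m hm
  haveI := preservesCoproducts_HD (X := S) (ι := ι) j
  let ψ' : (∐ fun i => (DCoh.Rpush f).obj (K i)) ⟶ ∐ fun i => (DCoh.Rpush f).obj (T i) :=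
    Limits.Sigma.map fun i => (DCoh.Rpush f).map ((t.truncGEπ n).app (K i))
  haveI : IsIso (H.map ψ') := by
    have hsq : sigmaComparison H (fun i => (DCoh.Rpush f).obj (K i)) ≫ H.map ψ' =
        Limits.Sigma.map (fun i => H.map ((DCoh.Rpush f).map ((t.truncGEπ n).app (K i)))) ≫
          sigmaComparison H (fun i => (DCoh.Rpush f).obj (T i)) :=
      sigmaComparison_natural H fun i => (DCoh.Rpush f).map ((t.truncGEπ n).app (K i))
    exact IsIso.of_isIso_fac_left hsq
  have hsq : sigmaComparison (DCoh.Rpush f) K ≫ (DCoh.Rpush f).map ψ = ψ' ≫ sigmaComparison (DCoh.Rpush f) T :=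
    sigmaComparison_natural (DCoh.Rpush f) fun i => (t.truncGEπ n).app (K i)
  have h2 := congrArg H.map hsq
  rw [Functor.map_comp, Functor.map_comp] at h2
  exact IsIso.of_isIso_fac_right h2

/-- preservation of a coproduct is local on the target -/
theorem isIso_comparison_of_local (K : ι → DCoh.D X) [HasCoproduct K]
    [HasCoproduct fun i => (DCoh.Rpush f).obj (K i)]
    (h : ∀ y : S, ∃ (V : S.Opens), y ∈ V ∧ ∃ (_ : DCoh.HasRpush (f ∣_ V)),
      PreservesColimit (Discrete.functor fun i => (DCoh.restrictD (f ⁻¹ᵁ V).ι).obj (K i)) (DCoh.Rpush (f ∣_ V))) :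
    IsIso (sigmaComparison (DCoh.Rpush f) K) := by
  refine isIso_of_restrict _ fun y => ?_
  obtain ⟨V, hy, hV, hp⟩ := h y
  haveI := hV
  haveI := hp
  haveI := preservesCoproducts_restrictD (ι := ι) (f ⁻¹ᵁ V).ι
  haveI := preservesCoproducts_restrictD (ι := ι) V.ι
  haveI : PreservesColimit (Discrete.functor K ⋙ DCoh.restrictD (f ⁻¹ᵁ V).ι) (DCoh.Rpush (f ∣_ V)) :=
    preservesColimit_of_iso_diagram _ (Discrete.natIso fun _ => Iso.refl _ :
      (Discrete.functor fun i => (DCoh.restrictD (f ⁻¹ᵁ V).ι).obj (K i)) ≅ Discrete.functor K ⋙ DCoh.restrictD (f ⁻¹ᵁ V).ι)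
  haveI : PreservesColimit (Discrete.functor K) (DCoh.Rpush f ⋙ DCoh.restrictD V.ι) :=
    preservesColimit_of_natIso _ (rpushRestrIso f V).symm
  haveI := hasCoproducts_D V.toScheme ι
  have e : sigmaComparison (DCoh.restrictD V.ι) (fun i => (DCoh.Rpush f).obj (K i)) ≫
      (DCoh.restrictD V.ι).map (sigmaComparison (DCoh.Rpush f) K) =
        sigmaComparison (DCoh.Rpush f ⋙ DCoh.restrictD V.ι) K := by
    refine Limits.Sigma.hom_ext _ _ fun i => ?_
    rw [ι_comp_sigmaComparison_assoc, ← Functor.map_comp, ι_comp_sigmaComparison]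
    exact (ι_comp_sigmaComparison (DCoh.Rpush f ⋙ DCoh.restrictD V.ι) K i).symm
  haveI : IsIso (sigmaComparison (DCoh.Rpush f ⋙ DCoh.restrictD V.ι) K) := inferInstance
  exact ⟨V, hy, IsIso.of_isIso_fac_left e⟩

lemma exists_affine_base (y : S) : ∃ V : S.Opens, y ∈ V ∧ CompactSpace V.toScheme ∧ QuasiSeparatedSpace V.toScheme ∧
    QuasiSeparatedSpace (f ⁻¹ᵁ V).toScheme := by
  obtain ⟨_, ⟨(V : S.Opens), hV, rfl⟩, hyV, -⟩ :=
    S.isBasis_affineOpens.exists_subset_of_mem_open (Set.mem_univ y) isOpen_univ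
  refine ⟨V, hyV, isCompact_iff_compactSpace.1 hV.isCompact, ?_, ?_⟩
  · exact (isQuasiSeparated_iff_quasiSeparatedSpace _ V.2).1 hV.isQuasiSeparated
  · exact (isQuasiSeparated_iff_quasiSeparatedSpace _ (f ⁻¹ᵁ V).2).1
      (f.isQuasiSeparated_preimage hV.isQuasiSeparated)

/-- `Rf_*` commutes with coproducts which are uniformly bounded below -/
theorem isIso_comparison_bdd (K : ι → DCoh.D X) (n : ℤ) (hK : ∀ i, (K i).IsGE n) [HasCoproduct K]
    [HasCoproduct fun i => (DCoh.Rpush f).obj (K i)] : IsIso (sigmaComparison (DCoh.Rpush f) K) := by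
  refine isIso_comparison_of_local f K fun y => ?_
  obtain ⟨V, hy, h1, h2, h3⟩ := exists_affine_base f y
  haveI := h1; haveI := h2; haveI := h3
  haveI := DerPush.hasRpush_sch (f ∣_ V)
  refine ⟨V, hy, inferInstance, preservesColimit_rpush_bdd (f ∣_ V) _ n fun i => ?_⟩
  haveI := hK i
  exact (DerivedCategory.isGE_iff _ n).2 fun m hm =>
    ((Scheme.Modules.restrictFunctor (f ⁻¹ᵁ V).ι).map_isZero ((DerivedCategory.isGE_iff _ n).1 (hK i) m hm)).of_iso
      ((DQCoh.homologyDerIso (Scheme.Modules.restrictFunctor (f ⁻¹ᵁ V).ι) m).app (K i))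

/-- `Rf_*` commutes with coproducts in `D_QCoh` -/
theorem isIso_comparison_qcoh (K : ι → DCoh.D X) (hK : ∀ i, DCoh.IsQCohD (K i)) [HasCoproduct K]
    [HasCoproduct fun i => (DCoh.Rpush f).obj (K i)] : IsIso (sigmaComparison (DCoh.Rpush f) K) := by
  refine isIso_comparison_of_local f K fun y => ?_
  obtain ⟨V, hy, h1, h2, h3⟩ := exists_affine_base f y
  haveI := h1; haveI := h2; haveI := h3
  haveI := DerPush.hasRpush_sch (f ∣_ V)
  exact ⟨V, hy, inferInstance, preservesColimit_rpush_qcoh (f ∣_ V) _ fun i => isQCohD_restrictD _ (hK i)⟩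

end QCoh

end Groth.Agent.DQPush
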