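import Groth.Agent.DQPush.Restrict

/-!
`Rf_*` and base change along open immersions.
-/

set_option autoImplicit false
set_option backward.isDefEq.respectTransparency false
set_option backward.isDefEq.respectTransparency.types false
set_option linter.style.haveILetI false
set_option linter.unusedSectionVars false

universe u

open CategoryTheory Limits AlgebraicGeometry

attribute [local instance] HasDerivedCategory.standard

namespace Groth.Agent.DQPush

/-- restrictions along open immersions of K-injective complexes are K-injective -/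
lemma isKInjective_restrict_open {X X' : Scheme.{u}} (j : X' ⟶ X) [IsOpenImmersion j]
    (I : CochainComplex X.Modules ℤ) (hI : I.IsKInjective) :
    CochainComplex.IsKInjective (((Scheme.Modules.restrictFunctor j).mapHomologicalComplex (ComplexShape.up ℤ)).obj I) := by
  let U := j.opensRange
  let a := j.isoOpensRange
  let P := Scheme.Modules.pushforward a.inv
  let e : Scheme.Modules.restrictFunctor j ≅ Scheme.Modules.restrictFunctor U.ι ⋙ P :=
    Scheme.Modules.restrictFunctorCongr j.isoOpensRange_hom_ι.symm ≪≫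
      Scheme.Modules.restrictFunctorComp a.hom U.ι ≪≫
      Functor.isoWhiskerLeft _ ((Functor.leftUnitor _).symm ≪≫
        Functor.isoWhiskerRight ((Scheme.Modules.pushforwardId _).symm ≪≫
          Scheme.Modules.pushforwardCongr a.inv_hom_id.symm ≪≫ (Scheme.Modules.pushforwardComp a.inv a.hom).symm) _ ≪≫
        Functor.associator _ _ _ ≪≫
        Functor.isoWhiskerLeft P (Scheme.Modules.restrictFunctorAdjCounitIso a.hom) ≪≫ Functor.rightUnitor _)
  have h := KInj.isKInjective_rightAdjoint (Scheme.Modules.restrictAdjunction a.inv) _ (isKInjective_restrict U I hI)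
  haveI : CochainComplex.IsKInjective
      (((Scheme.Modules.restrictFunctor U.ι ⋙ P).mapHomologicalComplex (ComplexShape.up ℤ)).obj I) := h
  exact HomotopyEquiv.isKInjective (HomotopyEquiv.ofIso
    ((NatIso.mapHomologicalComplex e.symm (ComplexShape.up ℤ)).app I))

variable {X S X' S' : Scheme.{u}} (f : X ⟶ S) (f' : X' ⟶ S') (j : S' ⟶ S) (j' : X' ⟶ X)
  [IsOpenImmersion j] [IsOpenImmersion j'] (w : f' ≫ j = j' ≫ f) (hr : j'.opensRange = f ⁻¹ᵁ j.opensRange)

/-- `K(res) ⋙ K(f_*) = K(f_*) ⋙ K(res)` -/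
noncomputable def khBCIso :
    (Scheme.Modules.pushforward f).mapHomotopyCategory (ComplexShape.up ℤ) ⋙
        (Scheme.Modules.restrictFunctor j).mapHomotopyCategory (ComplexShape.up ℤ) ≅
      (Scheme.Modules.restrictFunctor j').mapHomotopyCategory (ComplexShape.up ℤ) ⋙
        (Scheme.Modules.pushforward f').mapHomotopyCategory (ComplexShape.up ℤ) :=
  Functor.mapHomotopyCategoryCompIso (RelPCS.bcPushIso f f' j j' w hr) (ComplexShape.up ℤ) ≪≫
    (Functor.mapHomotopyCategoryCompIso (Iso.refl _) (ComplexShape.up ℤ)).symm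

variable [DCoh.HasRpush f] [DCoh.HasRpush f']

/-- the unit of `f`, restricted to `V` -/
noncomputable def bcUnitL : DCoh.pushKh f ⋙ DCoh.restrictD j ⟶
    DerivedCategory.Qh ⋙ (DCoh.Rpush f ⋙ DCoh.restrictD j) :=
  Functor.whiskerRight (DerPush.rpushUnit f) _ ≫ (Functor.associator _ _ _).hom

/-- `K(f_*)` followed by restriction -/
noncomputable def pushKhBCIso : DCoh.pushKh f ⋙ DCoh.restrictD j ≅
    (Scheme.Modules.restrictFunctor j').mapHomotopyCategory (ComplexShape.up ℤ) ⋙ DCoh.pushKh f' :=
  Functor.associator _ _ _ ≪≫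
    Functor.isoWhiskerLeft _ (Scheme.Modules.restrictFunctor j).mapDerivedCategoryFactorsh ≪≫
    (Functor.associator _ _ _).symm ≪≫ Functor.isoWhiskerRight (khBCIso f f' j j' w hr) _ ≪≫ Functor.associator _ _ _

/-- the unit of `f|_V` on restrictions -/
noncomputable def bcUnitR : DCoh.pushKh f ⋙ DCoh.restrictD j ⟶
    DerivedCategory.Qh ⋙ (DCoh.restrictD j' ⋙ DCoh.Rpush f') :=
  (pushKhBCIso f f' j j' w hr).hom ≫ Functor.whiskerLeft _ (DerPush.rpushUnit f') ≫
    (Functor.associator _ _ _).inv ≫
    Functor.whiskerRight (Scheme.Modules.restrictFunctor j').mapDerivedCategoryFactorsh.inv _ ≫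
    (Functor.associator _ _ _).hom

lemma isIso_bcUnitR_iff (I : HomotopyCategory X.Modules (ComplexShape.up ℤ)) :
    IsIso ((bcUnitR f f' j j' w hr).app I) ↔ IsIso ((DerPush.rpushUnit f').app
      (((Scheme.Modules.restrictFunctor j').mapHomotopyCategory (ComplexShape.up ℤ)).obj I)) := by
  change IsIso ((pushKhBCIso f f' j j' w hr).hom.app I ≫ (DerPush.rpushUnit f').app _ ≫ 𝟙 _ ≫
    (DCoh.Rpush f').map ((Scheme.Modules.restrictFunctor j').mapDerivedCategoryFactorsh.inv.app I) ≫
      𝟙 _) ↔ _
  rw [isIso_comp_left_iff, isIso_comp_right_iff]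

instance isRightDerivedFunctor_bcUnitL : (DCoh.Rpush f ⋙ DCoh.restrictD j).IsRightDerivedFunctor (bcUnitL f j)
    (HomotopyCategory.quasiIso X.Modules (ComplexShape.up ℤ)) :=
  (KInj.isDeforming_Qh (DerPush.exists_kInj_sch (X := X)) _).isRightDerivedFunctor _ _ (bcUnitL f j) fun I hI => by
    haveI := DerPush.isIso_rpushUnit_app f hI
    change IsIso ((DCoh.restrictD j).map ((DerPush.rpushUnit f).app I) ≫ 𝟙 _)
    infer_instance

instance isRightDerivedFunctor_bcUnitR :
    (DCoh.restrictD j' ⋙ DCoh.Rpush f').IsRightDerivedFunctor (bcUnitR f f' j j' w hr)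
      (HomotopyCategory.quasiIso X.Modules (ComplexShape.up ℤ)) :=
  (KInj.isDeforming_Qh (DerPush.exists_kInj_sch (X := X)) _).isRightDerivedFunctor _ _ (bcUnitR f f' j j' w hr) fun I hI =>
    (isIso_bcUnitR_iff f f' j j' w hr I).2 (DerPush.isIso_rpushUnit_app _ (isKInjective_restrict_open _ _ hI))

/-- `(Rf_* E)|_V = R(f|_V)_* (E|_U)` -/
noncomputable def rpushBCIso :
    DCoh.Rpush f ⋙ DCoh.restrictD j ≅ DCoh.restrictD j' ⋙ DCoh.Rpush f' :=
  Functor.rightDerivedUnique _ _ (bcUnitL f j) (bcUnitR f f' j j' w hr) (HomotopyCategory.quasiIso X.Modules (ComplexShape.up ℤ))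

include w hr in
/-- being computed termwise is local on the target -/
theorem isIso_unit_bc_iff (I : HomotopyCategory X.Modules (ComplexShape.up ℤ)) :
    IsIso ((DCoh.restrictD j).map ((DerPush.rpushUnit f).app I)) ↔ IsIso ((DerPush.rpushUnit f').app
      (((Scheme.Modules.restrictFunctor j').mapHomotopyCategory (ComplexShape.up ℤ)).obj I)) := by
  rw [← isIso_bcUnitR_iff f f' j j' w hr]
  have h : (bcUnitL f j).app I ≫ (rpushBCIso f f' j j' w hr).hom.app (DerivedCategory.Qh.obj I) = (bcUnitR f f' j j' w hr).app I :=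
    (congr_app (Functor.rightDerivedNatTrans_fac _ _ (bcUnitL f j) (bcUnitR f f' j j' w hr)
      (HomotopyCategory.quasiIso X.Modules (ComplexShape.up ℤ)) (𝟙 _)) I).trans (Category.id_comp _)
  rw [← h, isIso_comp_right_iff]
  change _ ↔ IsIso ((DCoh.restrictD j).map ((DerPush.rpushUnit f).app I) ≫ 𝟙 _)
  rw [Category.comp_id]

end Groth.Agent.DQPush
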