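import Groth.Agent.DQPush.Acyclic
import Groth.Agent.DQPush.OpenBC

/-!
`Rf_*` for affine morphisms on `D_QCoh`.
-/

set_option autoImplicit false
set_option backward.isDefEq.respectTransparency false
set_option backward.isDefEq.respectTransparency.types false
set_option linter.style.haveILetI false

universe u

open CategoryTheory Limits AlgebraicGeometry Opposite TopologicalSpace Pretriangulated

attribute [local instance] HasDerivedCategory.standard

namespace Groth.Agent.DQPush

variable {X S : Scheme.{u}} (f : X ⟶ S) [IsAffineHom f] [DCoh.HasRpush f]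

/-- for affine morphisms the truncations compute everything in degrees `≥ -n` -/
theorem isIso_trunc_affine {E : DCoh.D X} (hE : DCoh.IsQCohD E) (n : ℕ) (j : ℤ) (hj : -(n : ℤ) ≤ j) :
    IsIso ((DerivedCategory.homologyFunctor S.Modules j).map
      ((DCoh.Rpush f).map ((DerivedCategory.TStructure.t.truncGEπ (-(n : ℤ))).app E))) := by
  haveI := hasInj X
  haveI : HasInjectiveResolutions (ModSite.Mod X.sheaf) := hasInj X
  haveI : SiteCmp.HasRpushD (ModSite.RMor.ofScheme f) := ‹DCoh.HasRpush f›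
  exact (RPushSite.cohIn_and_isIso (ModSite.RMor.ofScheme f) (qc X) (qc S)
    (fun F hF p => RPushQC.isQCoh_rpush f F hF p) {W | IsAffineOpen W} {W | IsAffineOpen W}
    exists_affine_cover (fun V _ => ⟨0, affine_cofinal V⟩) exists_affine_cover
    (fun V _ => ⟨0, affine_cofinal V⟩) (0 : ℤ)
    (fun F hF p hp => isZero_rpush_of_affine f F hF (by omega)) E hE).2 n j (by omega)

lemma shift_iso_rpush (E : DCoh.D X) (a i j : ℤ) (h : a + i = j) :
    Nonempty ((DerivedCategory.homologyFunctor S.Modules i).obj ((DCoh.Rpush f).obj (E⟦a⟧)) ≅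
      (DerivedCategory.homologyFunctor S.Modules j).obj ((DCoh.Rpush f).obj E)) := by
  haveI : SiteCmp.HasRpushD (ModSite.RMor.ofScheme f) := ‹DCoh.HasRpush f›
  exact ⟨(DerivedCategory.homologyFunctor S.Modules i).mapIso ((RPushSite.shiftIso (ModSite.RMor.ofScheme f) a).app E) ≪≫
    ((DerivedCategory.homologyFunctor S.Modules 0).shiftIso a i j h).app _⟩

/-- the degree zero case -/
lemma homology_zero_affine {K : DCoh.D X} (hK : DCoh.IsQCohD K) :
    Nonempty (DCoh.HD ((DCoh.Rpush f).obj K) 0 ≅ (Scheme.Modules.pushforward f).obj (DCoh.HD K 0)) := by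
  haveI := hasInj X
  haveI : HasInjectiveResolutions (ModSite.Mod X.sheaf) := hasInj X
  haveI : SiteCmp.HasRpushD (ModSite.RMor.ofScheme f) := ‹DCoh.HasRpush f›
  let t : Triangulated.TStructure (DCoh.D X) := DerivedCategory.TStructure.t
  let T := (t.truncGE (-((0 : ℕ) : ℤ))).obj K
  haveI hTge : T.IsGE 0 := by
    have h := t.isGE_truncGE_obj K (-((0 : ℕ) : ℤ)) 0 (by simp)
    exact h
  let e₁ : DCoh.HD ((DCoh.Rpush f).obj K) 0 ≅ DCoh.HD ((DCoh.Rpush f).obj T) 0 :=
    @asIso _ _ _ _ _ (isIso_trunc_affine f hK 0 0 (by simp))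
  let e₂ : DCoh.HD K 0 ≅ DCoh.HD T 0 :=
    @asIso _ _ _ _ _ (HDU.isIso_H_truncGEπ K (-((0 : ℕ) : ℤ)) 0 (by simp))
  let L := (t.truncLE 0).obj T
  haveI : L.IsLE 0 := t.isLE_truncLE_obj T 0 0 le_rfl
  haveI hLge : L.IsGE 0 := (DerivedCategory.isGE_iff _ _).2 fun i hi => by
    have hT := DerivedCategory.HomologySequence.exact₂ _ (t.triangleLEGE_distinguished 0 1 rfl T) i
    have hR : ((t.truncGE 1).obj T).IsGE 1 := t.isGE_truncGE_obj T 1 1 le_rfl
    exact (DerivedCategory.HomologySequence.exact₁ _ (t.triangleLEGE_distinguished 0 1 rfl T) (i - 1) i (by omega)).isZero_X₂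
      (((DerivedCategory.isGE_iff _ 1).1 hR (i - 1) (by omega)).eq_of_src _ _)
      (((DerivedCategory.isGE_iff _ 0).1 hTge i hi).eq_of_tgt _ _)
  obtain ⟨M, ⟨e⟩⟩ := DerivedCategory.exists_iso_singleFunctor_obj_of_isGE_of_isLE L 0
  haveI hR : ((t.truncGE 1).obj T).IsGE 1 := t.isGE_truncGE_obj T 1 1 le_rfl
  have hT := t.triangleLEGE_distinguished 0 1 rfl T
  obtain ⟨c, hT'⟩ := RPushSite.exists_rpush_triangle (ModSite.RMor.ofScheme f) _ _ _ hT
  have hz : ∀ i : ℤ, i ≤ 0 → IsZero ((DerivedCategory.homologyFunctor S.Modules i).obj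
      ((DCoh.Rpush f).obj ((t.truncGE 1).obj T))) := fun i hi =>
    (DerivedCategory.isGE_iff _ 1).1 (isGE_rpush f _ 1) i (by omega)
  have hz' : ∀ i : ℤ, i ≤ 0 → IsZero ((DerivedCategory.homologyFunctor X.Modules i).obj
      ((t.truncGE 1).obj T)) := fun i hi => (DerivedCategory.isGE_iff _ 1).1 hR i (by omega)
  haveI i₁ : IsIso ((DerivedCategory.homologyFunctor S.Modules 0).map ((DCoh.Rpush f).map ((t.truncLEι 0).app T))) := by
    haveI : Mono ((DerivedCategory.homologyFunctor S.Modules 0).map ((DCoh.Rpush f).map ((t.truncLEι 0).app T))) :=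
      (DerivedCategory.HomologySequence.exact₁ _ hT' (-1) 0 (by omega)).mono_g ((hz (-1) (by omega)).eq_of_src _ _)
    haveI : Epi ((DerivedCategory.homologyFunctor S.Modules 0).map ((DCoh.Rpush f).map ((t.truncLEι 0).app T))) :=
      (DerivedCategory.HomologySequence.exact₂ _ hT' 0).epi_f ((hz 0 le_rfl).eq_of_tgt _ _)
    exact isIso_of_mono_of_epi _
  haveI i₂ : IsIso ((DerivedCategory.homologyFunctor X.Modules 0).map ((t.truncLEι 0).app T)) := by
    haveI : Mono ((DerivedCategory.homologyFunctor X.Modules 0).map ((t.truncLEι 0).app T)) :=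
      (DerivedCategory.HomologySequence.exact₁ _ hT (-1) 0 (by omega)).mono_g ((hz' (-1) (by omega)).eq_of_src _ _)
    haveI : Epi ((DerivedCategory.homologyFunctor X.Modules 0).map ((t.truncLEι 0).app T)) :=
      (DerivedCategory.HomologySequence.exact₂ _ hT 0).epi_f ((hz' 0 le_rfl).eq_of_tgt _ _)
    exact isIso_of_mono_of_epi _
  let eM : DCoh.HD K 0 ≅ M :=
    e₂ ≪≫ (asIso ((DerivedCategory.homologyFunctor X.Modules 0).map ((t.truncLEι 0).app T))).symm ≪≫
      (DerivedCategory.homologyFunctor X.Modules 0).mapIso e ≪≫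
        (DerivedCategory.singleFunctorCompHomologyFunctorIso X.Modules 0).app M
  obtain ⟨e₃⟩ := RPushSite.nonempty_homology_single (ModSite.RMor.ofScheme f) M 0
  exact ⟨e₁ ≪≫ (asIso ((DerivedCategory.homologyFunctor S.Modules 0).map ((DCoh.Rpush f).map ((t.truncLEι 0).app T)))).symm ≪≫
    (DerivedCategory.homologyFunctor S.Modules 0).mapIso ((DCoh.Rpush f).mapIso e) ≪≫ e₃ ≪≫
    ((Scheme.Modules.pushforward f).rightDerivedZeroIsoSelf).app M ≪≫ (Scheme.Modules.pushforward f).mapIso eM.symm⟩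

/-- `H^i(Rf_* E) = f_* H^i(E)` for affine `f` -/
theorem nonempty_homology_affine {E : DCoh.D X} (hE : DCoh.IsQCohD E) (i : ℤ) :
    Nonempty (DCoh.HD ((DCoh.Rpush f).obj E) i ≅ (Scheme.Modules.pushforward f).obj (DCoh.HD E i)) := by
  let e : DCoh.HD (E⟦i⟧) 0 ≅ DCoh.HD E i :=
    ((DerivedCategory.homologyFunctor X.Modules 0).shiftIso i 0 i (add_zero i)).app E
  have hq : DCoh.IsQCohD (E⟦i⟧) := fun k => QC.isQCoh_of_iso
    (((DerivedCategory.homologyFunctor X.Modules 0).shiftIso i k (i + k) rfl).app E).symm (hE (i + k))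
  obtain ⟨e'⟩ := shift_iso_rpush f E i 0 i (add_zero i)
  obtain ⟨e''⟩ := homology_zero_affine f hq
  exact ⟨e'.symm ≪≫ e'' ≪≫ (Scheme.Modules.pushforward f).mapIso e⟩

omit [DCoh.HasRpush f] in
/-- `f_*` reflects isomorphisms of quasi-coherent modules for affine `f` -/
lemma isIso_of_push {M N : X.Modules} (hM : Coh.IsQCoh M) (hN : Coh.IsQCoh N) (φ : M ⟶ N)
    (h : IsIso ((Scheme.Modules.pushforward f).map φ)) : IsIso φ := by
  haveI := h
  refine QC.isIso_of_restrict_cover (fun V : S.affineOpens => (V.2.preimage f).fromSpec) (fun x => ?_) φ fun V => ?_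
  · obtain ⟨_, ⟨(V : S.Opens), hV, rfl⟩, hxV, -⟩ :=
      S.isBasis_affineOpens.exists_subset_of_mem_open (Set.mem_univ (f.base x)) isOpen_univ
    exact ⟨⟨V, hV⟩, (hV.preimage f).range_fromSpec.ge hxV⟩
  · exact QC.isIso_restrict_of_bijective (V.2.preimage f) hM hN φ
      (ConcreteCategory.bijective_of_isIso (((Scheme.Modules.pushforward f).map φ).app V.1))

omit [DCoh.HasRpush f] in
/-- vanishing of `f_* M` for affine `f` -/
lemma isZero_of_push {M : X.Modules} (hM : Coh.IsQCoh M) (h : IsZero ((Scheme.Modules.pushforward f).obj M)) :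
    IsZero M := by
  let Z := kernel (𝟙 M)
  have hZ : IsZero Z := isZero_kernel_of_mono _
  haveI := isIso_of_push f (DQCoh.isQCoh_of_isZero hZ) hM (0 : Z ⟶ M)
    ⟨0, ((Scheme.Modules.pushforward f).map_isZero hZ).eq_of_src _ _, h.eq_of_src _ _⟩
  exact hZ.of_iso (asIso (0 : Z ⟶ M)).symm

/-- `Rf_*` reflects isomorphisms on `D_QCoh` for affine `f` -/
theorem isIso_of_rpush {E F : DCoh.D X} (hE : DCoh.IsQCohD E) (hF : DCoh.IsQCohD F) (α : E ⟶ F)
    (hα : IsIso ((DCoh.Rpush f).map α)) : IsIso α := by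
  haveI := hα
  haveI : SiteCmp.HasRpushD (ModSite.RMor.ofScheme f) := ‹DCoh.HasRpush f›
  obtain ⟨C, v, w, hT⟩ := Pretriangulated.distinguished_cocone_triangle α
  obtain ⟨c, hT'⟩ := RPushSite.exists_rpush_triangle (ModSite.RMor.ofScheme f) _ _ _ hT
  have hz : IsZero ((DCoh.Rpush f).obj C) :=
    (Pretriangulated.Triangle.isZero₃_iff_isIso₁ _ hT').2 hα
  have hC : DCoh.IsQCohD C := fun i =>
    DQCoh.isQCoh_of_exact₅ _ _ _ _ _ _ _
      (DerivedCategory.HomologySequence.exact₂ _ hT i)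
      (DerivedCategory.HomologySequence.exact₃ _ hT i (i + 1) rfl)
      (DerivedCategory.HomologySequence.exact₁ _ hT i (i + 1) rfl) (hE i) (hF i) (hE (i + 1)) (hF (i + 1))
  have hC0 : ∀ i, IsZero ((DerivedCategory.homologyFunctor X.Modules i).obj C) := fun i => by
    obtain ⟨e⟩ := nonempty_homology_affine f hC i
    exact isZero_of_push f (hC i) (((DerivedCategory.homologyFunctor S.Modules i).map_isZero hz).of_iso e.symm)
  rw [DerivedCategory.isIso_iff]
  intro i
  haveI : Mono ((DerivedCategory.homologyFunctor X.Modules i).map α) :=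
    (DerivedCategory.HomologySequence.exact₁ _ hT (i - 1) i (by omega)).mono_g ((hC0 (i - 1)).eq_of_src _ _)
  haveI : Epi ((DerivedCategory.homologyFunctor X.Modules i).map α) :=
    (DerivedCategory.HomologySequence.exact₂ _ hT i).epi_f ((hC0 i).eq_of_tgt _ _)
  exact isIso_of_mono_of_epi _

section Tilde

variable {A B : Type u} [CommRing A] [CommRing B] (φ : A →+* B)
  [PreservesFiniteLimits (tilde.functor (CommRingCat.of A))] [PreservesFiniteLimits (tilde.functor (CommRingCat.of B))]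
  [DCoh.HasRpush (Spec.map (CommRingCat.ofHom φ))]

/-- `Q(f_* M~) = Rf_* Q(M~)` -/
noncomputable def unitTildeIso :
    (tilde.functor (CommRingCat.of B)).mapHomologicalComplex (ComplexShape.up ℤ) ⋙
        (Scheme.Modules.pushforward (Spec.map (CommRingCat.ofHom φ))).mapHomologicalComplex (ComplexShape.up ℤ) ⋙
          DerivedCategory.Q ≅
      (tilde.functor (CommRingCat.of B)).mapHomologicalComplex (ComplexShape.up ℤ) ⋙ DerivedCategory.Q ⋙
        DCoh.Rpush (Spec.map (CommRingCat.ofHom φ)) :=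
  haveI : ∀ K, IsIso ((Functor.whiskerLeft ((tilde.functor (CommRingCat.of B)).mapHomologicalComplex (ComplexShape.up ℤ))
      (unitQ (Spec.map (CommRingCat.ofHom φ)))).app K) := fun K =>
    (AcycDef.isIso_unitQ_iff _ _ _ _).2
      (isIso_unit_of_affine (Spec.map (CommRingCat.ofHom φ))
        (((tilde.functor (CommRingCat.of B)).mapHomologicalComplex (ComplexShape.up ℤ)).obj K)
        fun n => QC.isQCoh_tilde _)
  @asIso _ _ _ _ (Functor.whiskerLeft ((tilde.functor (CommRingCat.of B)).mapHomologicalComplex (ComplexShape.up ℤ))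
    (unitQ (Spec.map (CommRingCat.ofHom φ)))) (NatIso.isIso_of_isIso_app _)

/-- derived direct image of `M~` along `Spec φ` -/
noncomputable def rpushTildeIso :
    DCoh.tildeD (CommRingCat.of B) ⋙ DCoh.Rpush (Spec.map (CommRingCat.ofHom φ)) ≅
      DRing.restrictD φ ⋙ DCoh.tildeD (CommRingCat.of A) :=
  Localization.liftNatIso DerivedCategory.Q (HomologicalComplex.quasiIso (ModuleCat.{u} B) (ComplexShape.up ℤ))
    (DerivedCategory.Q ⋙ DCoh.tildeD (CommRingCat.of B) ⋙ DCoh.Rpush (Spec.map (CommRingCat.ofHom φ)))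
    (DerivedCategory.Q ⋙ DRing.restrictD φ ⋙ DCoh.tildeD (CommRingCat.of A)) _ _
    ((Functor.associator _ _ _).symm ≪≫
      Functor.isoWhiskerRight (tilde.functor (CommRingCat.of B)).mapDerivedCategoryFactors _ ≪≫
      Functor.associator _ _ _ ≪≫ (unitTildeIso φ).symm ≪≫ (Functor.associator _ _ _).symm ≪≫
      Functor.isoWhiskerRight (Functor.mapHomologicalComplexCompIso (RelPCS.pushTildeIso (CommRingCat.ofHom φ)) (ComplexShape.up ℤ) ≪≫
        (Functor.mapHomologicalComplexCompIso (Iso.refl _) (ComplexShape.up ℤ)).symm) _ ≪≫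
      Functor.associator _ _ _ ≪≫
      Functor.isoWhiskerLeft _ (tilde.functor (CommRingCat.of A)).mapDerivedCategoryFactors.symm ≪≫
      (Functor.associator _ _ _).symm ≪≫
      Functor.isoWhiskerRight (ModuleCat.restrictScalars.{u} φ).mapDerivedCategoryFactors.symm _ ≪≫
      Functor.associator _ _ _)

end Tilde

end Groth.Agent.DQPush
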