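import Groth.Agent.W7ExtZero.Basic
import Groth.Agent.KInj.Ops
import Groth.Agent.DerPush.Basic
import Groth.Agent.RelPCS.Push
import Groth.Prelude.Def_DCoh3

/-!
`Rf_*` commutes with restriction to opens of the target.
-/

set_option autoImplicit false
set_option backward.isDefEq.respectTransparency false
set_option backward.isDefEq.respectTransparency.types false
set_option linter.style.haveILetI false

universe u

open CategoryTheory Limits AlgebraicGeometry

attribute [local instance] HasDerivedCategory.standard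

namespace Groth.Agent.DQPush

variable {X Y : Scheme.{u}}

lemma preservesFiniteLimits_extZero (U : X.Opens) : PreservesFiniteLimits (CxOX.extZero U.ι) := by
  have h := ModSiteExt.preservesFiniteLimits_extZero X.sheaf U
  have h2 := @comp_preservesFiniteLimits _ _ _ _ _ _ (Scheme.Modules.overEquiv U).inverse
    (ModSite.extZero X.sheaf U) ⟨fun _ => inferInstance⟩ h
  exact @preservesFiniteLimits_of_natIso _ _ _ _ _ _ (CxOX.extZeroIsoSite U).symm h2

/-- restrictions of K-injective complexes are K-injective -/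
lemma isKInjective_restrict (U : X.Opens) (I : CochainComplex X.Modules ℤ) (hI : I.IsKInjective) :
    CochainComplex.IsKInjective
      (((Scheme.Modules.restrictFunctor U.ι).mapHomologicalComplex (ComplexShape.up ℤ)).obj I) := by
  haveI := preservesFiniteLimits_extZero U
  exact KInj.isKInjective_rightAdjoint (CxOX.extZeroAdj U.ι) I hI

variable (f : X ⟶ Y) (V : Y.Opens)

/-- `K(res) ⋙ K(f_*) = K(f_*) ⋙ K(res)` -/
noncomputable def khIso :
    (Scheme.Modules.pushforward f).mapHomotopyCategory (ComplexShape.up ℤ) ⋙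
        (Scheme.Modules.restrictFunctor V.ι).mapHomotopyCategory (ComplexShape.up ℤ) ≅
      (Scheme.Modules.restrictFunctor (f ⁻¹ᵁ V).ι).mapHomotopyCategory (ComplexShape.up ℤ) ⋙
        (Scheme.Modules.pushforward (f ∣_ V)).mapHomotopyCategory (ComplexShape.up ℤ) :=
  Functor.mapHomotopyCategoryCompIso (RelPCS.pushRestrIso f V) (ComplexShape.up ℤ) ≪≫
    (Functor.mapHomotopyCategoryCompIso (Iso.refl _) (ComplexShape.up ℤ)).symm

variable [DCoh.HasRpush f] [DCoh.HasRpush (f ∣_ V)]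

/-- the unit of `f`, restricted to `V` -/
noncomputable def unitL : DCoh.pushKh f ⋙ DCoh.restrictD V.ι ⟶
    DerivedCategory.Qh ⋙ (DCoh.Rpush f ⋙ DCoh.restrictD V.ι) :=
  Functor.whiskerRight (DerPush.rpushUnit f) _ ≫ (Functor.associator _ _ _).hom

/-- `K(f_*)` followed by restriction -/
noncomputable def pushKhRestrIso : DCoh.pushKh f ⋙ DCoh.restrictD V.ι ≅
    (Scheme.Modules.restrictFunctor (f ⁻¹ᵁ V).ι).mapHomotopyCategory (ComplexShape.up ℤ) ⋙ DCoh.pushKh (f ∣_ V) :=
  Functor.associator _ _ _ ≪≫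
    Functor.isoWhiskerLeft _ (Scheme.Modules.restrictFunctor V.ι).mapDerivedCategoryFactorsh ≪≫
    (Functor.associator _ _ _).symm ≪≫ Functor.isoWhiskerRight (khIso f V) _ ≪≫ Functor.associator _ _ _

/-- the unit of `f|_V` on restrictions -/
noncomputable def unitR : DCoh.pushKh f ⋙ DCoh.restrictD V.ι ⟶
    DerivedCategory.Qh ⋙ (DCoh.restrictD (f ⁻¹ᵁ V).ι ⋙ DCoh.Rpush (f ∣_ V)) :=
  (pushKhRestrIso f V).hom ≫ Functor.whiskerLeft _ (DerPush.rpushUnit (f ∣_ V)) ≫
    (Functor.associator _ _ _).inv ≫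
    Functor.whiskerRight (Scheme.Modules.restrictFunctor (f ⁻¹ᵁ V).ι).mapDerivedCategoryFactorsh.inv _ ≫
    (Functor.associator _ _ _).hom

lemma isIso_unitR_iff (I : HomotopyCategory X.Modules (ComplexShape.up ℤ)) :
    IsIso ((unitR f V).app I) ↔ IsIso ((DerPush.rpushUnit (f ∣_ V)).app
      (((Scheme.Modules.restrictFunctor (f ⁻¹ᵁ V).ι).mapHomotopyCategory (ComplexShape.up ℤ)).obj I)) := by
  change IsIso ((pushKhRestrIso f V).hom.app I ≫ (DerPush.rpushUnit (f ∣_ V)).app _ ≫ 𝟙 _ ≫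
    (DCoh.Rpush (f ∣_ V)).map ((Scheme.Modules.restrictFunctor (f ⁻¹ᵁ V).ι).mapDerivedCategoryFactorsh.inv.app I) ≫
      𝟙 _) ↔ _
  rw [isIso_comp_left_iff, isIso_comp_right_iff]

instance isRightDerivedFunctor_unitL : (DCoh.Rpush f ⋙ DCoh.restrictD V.ι).IsRightDerivedFunctor (unitL f V)
    (HomotopyCategory.quasiIso X.Modules (ComplexShape.up ℤ)) :=
  (KInj.isDeforming_Qh (DerPush.exists_kInj_sch (X := X)) _).isRightDerivedFunctor _ _ (unitL f V) fun I hI => by
    haveI := DerPush.isIso_rpushUnit_app f hI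
    change IsIso ((DCoh.restrictD V.ι).map ((DerPush.rpushUnit f).app I) ≫ 𝟙 _)
    infer_instance

instance isRightDerivedFunctor_unitR :
    (DCoh.restrictD (f ⁻¹ᵁ V).ι ⋙ DCoh.Rpush (f ∣_ V)).IsRightDerivedFunctor (unitR f V)
      (HomotopyCategory.quasiIso X.Modules (ComplexShape.up ℤ)) :=
  (KInj.isDeforming_Qh (DerPush.exists_kInj_sch (X := X)) _).isRightDerivedFunctor _ _ (unitR f V) fun I hI =>
    (isIso_unitR_iff f V I).2 (DerPush.isIso_rpushUnit_app _ (isKInjective_restrict _ _ hI))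

/-- `(Rf_* E)|_V = R(f|_V)_* (E|_U)` -/
noncomputable def rpushRestrIso :
    DCoh.Rpush f ⋙ DCoh.restrictD V.ι ≅ DCoh.restrictD (f ⁻¹ᵁ V).ι ⋙ DCoh.Rpush (f ∣_ V) :=
  Functor.rightDerivedUnique _ _ (unitL f V) (unitR f V) (HomotopyCategory.quasiIso X.Modules (ComplexShape.up ℤ))

/-- `(Rf_* E)|_V = R(f|_V)_* (E|_U)` -/
theorem nonempty_rpushRestrIso :
    Nonempty (DCoh.Rpush f ⋙ DCoh.restrictD V.ι ≅ DCoh.restrictD (f ⁻¹ᵁ V).ι ⋙ DCoh.Rpush (f ∣_ V)) :=
  ⟨rpushRestrIso f V⟩

/-- being computed termwise is local on the target -/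
theorem isIso_unit_restrict_iff (I : HomotopyCategory X.Modules (ComplexShape.up ℤ)) :
    IsIso ((DCoh.restrictD V.ι).map ((DerPush.rpushUnit f).app I)) ↔ IsIso ((DerPush.rpushUnit (f ∣_ V)).app
      (((Scheme.Modules.restrictFunctor (f ⁻¹ᵁ V).ι).mapHomotopyCategory (ComplexShape.up ℤ)).obj I)) := by
  rw [← isIso_unitR_iff]
  have h : (unitL f V).app I ≫ (rpushRestrIso f V).hom.app (DerivedCategory.Qh.obj I) = (unitR f V).app I :=
    (congr_app (Functor.rightDerivedNatTrans_fac _ _ (unitL f V) (unitR f V)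
      (HomotopyCategory.quasiIso X.Modules (ComplexShape.up ℤ)) (𝟙 _)) I).trans (Category.id_comp _)
  rw [← h, isIso_comp_right_iff]
  change _ ↔ IsIso ((DCoh.restrictD V.ι).map ((DerPush.rpushUnit f).app I) ≫ 𝟙 _)
  rw [Category.comp_id]

end Groth.Agent.DQPush
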