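import Groth.Agent.DQPush.Trunc
import Groth.Agent.DQPush.Restrict
import Groth.Agent.DQCoh.AffinePerf
import Groth.Agent.RPushSite.SingleHomology

/-!
`Rf_*` preserves `D_QCoh` and bounds below, and has bounded amplitude.
-/

set_option autoImplicit false
set_option backward.isDefEq.respectTransparency false
set_option backward.isDefEq.respectTransparency.types false
set_option linter.style.haveILetI false

universe u

open CategoryTheory Limits AlgebraicGeometry Opposite TopologicalSpace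

attribute [local instance] HasDerivedCategory.standard

namespace Groth.Agent.DQPush

variable {X S : Scheme.{u}} (f : X ⟶ S)

lemma isQCohD_restrictD (U : X.Opens) {E : DCoh.D X} (hE : DCoh.IsQCohD E) :
    DCoh.IsQCohD ((DCoh.restrictD U.ι).obj E) := fun i =>
  QC.isQCoh_of_iso ((DQCoh.homologyDerIso (Scheme.Modules.restrictFunctor U.ι) i).app E).symm
    (QC.isQCoh_restrict U.ι (hE i))

/-- `Rf_*` preserves bounds below -/
theorem isGE_rpush [DCoh.HasRpush f] (E : DCoh.D X) (n : ℤ) [E.IsGE n] : ((DCoh.Rpush f).obj E).IsGE n := by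
  haveI : SiteCmp.HasRpushD (ModSite.RMor.ofScheme f) := ‹DCoh.HasRpush f›
  exact RPushSite.preservesGE_rpush (ModSite.RMor.ofScheme f) E n ‹_›

variable [QuasiCompact f] [QuasiSeparated f] [DCoh.HasRpush f]

/-- `Rf_*` preserves quasi-coherent cohomology -/
theorem isQCohD_rpush {E : DCoh.D X} (hE : DCoh.IsQCohD E) : DCoh.IsQCohD ((DCoh.Rpush f).obj E) := by
  intro i
  refine QC.isQCoh_of_local fun y => ?_
  obtain ⟨_, ⟨(V : S.Opens), hV, rfl⟩, hyV, -⟩ := S.isBasis_affineOpens.exists_subset_of_mem_open (Set.mem_univ y) isOpen_univ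
  haveI : CompactSpace (V : S.Opens).toScheme := isCompact_iff_compactSpace.1 hV.isCompact
  haveI := DerPush.hasRpush_sch (f ∣_ V)
  obtain ⟨N, hN⟩ := exists_trunc_bound (f ∣_ V)
  obtain ⟨e⟩ := nonempty_rpushRestrIso f V
  refine ⟨_, V.ι, inferInstance, ⟨⟨y, hyV⟩, rfl⟩, ?_⟩
  exact QC.isQCoh_of_iso (((DerivedCategory.homologyFunctor _ i).mapIso (e.app E)).symm ≪≫
    (DQCoh.homologyDerIso (Scheme.Modules.restrictFunctor V.ι) i).app ((DCoh.Rpush f).obj E))
    ((hN _ (isQCohD_restrictD _ hE)).1 i)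

/-- uniform bound of the cohomological amplitude over a quasi-compact base -/
theorem exists_amplitude [CompactSpace S] : ∃ N : ℕ, ∀ E : DCoh.D X, DCoh.IsQCohD E → ∀ b : ℤ, E.IsLE b →
    ∀ m : ℤ, b + N ≤ m → IsZero (DCoh.HD ((DCoh.Rpush f).obj E) m) := by
  haveI := hasInj X
  obtain ⟨N₁, hN₁⟩ := exists_trunc_bound f
  obtain ⟨N₂, hN₂⟩ := exists_bound f
  refine ⟨N₁ + N₂ + 1, fun E hE => ?_⟩
  -- single degree
  have key : ∀ (K : DCoh.D X), DCoh.IsQCohD K → K.IsLE 0 → ∀ m : ℤ, ((N₁ + N₂ + 1 : ℕ) : ℤ) ≤ m →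
      IsZero (DCoh.HD ((DCoh.Rpush f).obj K) m) := by
    intro K hK hle m hm
    haveI := hle
    let T := (DerivedCategory.TStructure.t.truncGE (-((0 : ℕ) : ℤ))).obj K
    haveI hTge : T.IsGE 0 := by
      have h := DerivedCategory.TStructure.t.isGE_truncGE_obj K (-((0 : ℕ) : ℤ)) 0 (by simp)
      exact h
    haveI hTle : T.IsLE 0 := (DerivedCategory.isLE_iff _ 0).2 fun i hi => by
      have := HDU.isIso_H_truncGEπ K (-((0 : ℕ) : ℤ)) i (by omega)
      exact (((DerivedCategory.isLE_iff K 0).1 hle i hi)).of_iso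
        (asIso ((DerivedCategory.homologyFunctor X.Modules i).map
          ((DerivedCategory.TStructure.t.truncGEπ (-((0 : ℕ) : ℤ))).app K))).symm
    have hTq : Coh.IsQCoh (DCoh.HD T 0) := by
      have := HDU.isIso_H_truncGEπ K (-((0 : ℕ) : ℤ)) 0 (by simp)
      exact QC.isQCoh_of_iso (asIso ((DerivedCategory.homologyFunctor X.Modules 0).map
          ((DerivedCategory.TStructure.t.truncGEπ (-((0 : ℕ) : ℤ))).app K))) (hK 0)
    obtain ⟨M, ⟨e⟩⟩ := DerivedCategory.exists_iso_singleFunctor_obj_of_isGE_of_isLE T 0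
    have hM : Coh.IsQCoh M := QC.isQCoh_of_iso ((DerivedCategory.homologyFunctor _ 0).mapIso e ≪≫
      (DerivedCategory.singleFunctorCompHomologyFunctorIso X.Modules 0).app M) hTq
    obtain ⟨p, rfl⟩ : ∃ p : ℕ, m = (p : ℤ) := ⟨m.toNat, by omega⟩
    haveI : HasInjectiveResolutions (ModSite.Mod X.sheaf) := hasInj X
    haveI : SiteCmp.HasRpushD (ModSite.RMor.ofScheme f) := ‹DCoh.HasRpush f›
    have hs : IsZero ((DerivedCategory.homologyFunctor S.Modules (p : ℤ)).obj
        ((DCoh.Rpush f).obj ((DerivedCategory.singleFunctor X.Modules 0).obj M))) :=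
      (hN₂ M hM p (by omega)).of_iso (RPushSite.nonempty_homology_single (ModSite.RMor.ofScheme f) M p).some
    have := (hN₁ K hK).2 0 p (by omega)
    exact (hs.of_iso ((DerivedCategory.homologyFunctor S.Modules (p : ℤ)).mapIso ((DCoh.Rpush f).mapIso e))).of_iso
      (asIso ((DerivedCategory.homologyFunctor S.Modules (p : ℤ)).map ((DCoh.Rpush f).map
        ((DerivedCategory.TStructure.t.truncGEπ (-((0 : ℕ) : ℤ))).app K))))
  intro b hb m hm
  haveI := hb
  haveI : SiteCmp.HasRpushD (ModSite.RMor.ofScheme f) := ‹DCoh.HasRpush f›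
  have hle : (E⟦b⟧).IsLE 0 := DerivedCategory.TStructure.t.isLE_shift E b b 0 (by omega)
  have hq : DCoh.IsQCohD (E⟦b⟧) := fun i => QC.isQCoh_of_iso
    (((DerivedCategory.homologyFunctor X.Modules 0).shiftIso b i (b + i) rfl).app E).symm (hE (b + i))
  exact (key _ hq hle (m - b) (by omega)).of_iso
    ((((DerivedCategory.homologyFunctor S.Modules 0).shiftIso b (m - b) m (by omega)).app _).symm ≪≫
      (DerivedCategory.homologyFunctor S.Modules (m - b)).mapIso
        ((RPushSite.shiftIso (ModSite.RMor.ofScheme f) b).app E).symm)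

end Groth.Agent.DQPush
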