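import Groth.Agent.DQPush.FilColim
import Groth.Agent.RpushColim.Main

/-!
Filtered colimits of uniformly bounded below complexes on which `f_*` computes `Rf_*`.
-/

set_option autoImplicit false
set_option backward.isDefEq.respectTransparency false
set_option backward.isDefEq.respectTransparency.types false
set_option linter.style.haveILetI false

universe u

open CategoryTheory Limits AlgebraicGeometry Opposite TopologicalSpace

attribute [local instance] HasDerivedCategory.standard

namespace Groth.Agent.DQPush

variable {X S : Scheme.{u}} (f : X ⟶ S) [QuasiCompact f] [QuasiSeparated f]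
  (J : Type u) [SmallCategory J] [IsFiltered J]

/-- direct images of modules along qcqs morphisms preserve filtered colimits -/
theorem preservesColimitsOfShape_pushforward : PreservesColimitsOfShape J (Scheme.Modules.pushforward f) := by
  haveI := DerPush.isGrothendieckAbelian_modules S
  haveI := DerPush.isGrothendieckAbelian_modules X
  let T := SheafOfModules.toSheaf.{u} S.ringCatSheaf
  haveI : PreservesColimitsOfShape J (Coh.pushAb f) := by
    obtain ⟨α, _, _, _, F, _⟩ := IsFiltered.exists_directed J
    haveI := RpushColim.preservesColimitsOfShape_push f α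
    exact Functor.Final.preservesColimitsOfShape_of_final F _
  haveI : ReflectsColimitsOfShape J T := reflectsColimitsOfShape_of_reflectsIsomorphisms
  haveI : PreservesColimitsOfShape J (Scheme.Modules.pushforward f ⋙ T) :=
    (inferInstance : PreservesColimitsOfShape J (SheafOfModules.toSheaf.{u} X.ringCatSheaf ⋙ Coh.pushAb f))
  exact preservesColimitsOfShape_of_reflects_of_preserves (Scheme.Modules.pushforward f) T

variable {J} [DCoh.HasRpush f]

lemma isIso_unitQ_iff (K : CochainComplex X.Modules ℤ) :
    IsIso ((unitQ f).app K) ↔
      IsIso ((DerPush.rpushUnit f).app ((HomotopyCategory.quotient X.Modules (ComplexShape.up ℤ)).obj K)) := by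
  dsimp only [unitQ, AcycDef.unitQ]
  rw [isIso_comp_left_iff, isIso_comp_right_iff]

/-- the unit at a filtered colimit -/
theorem isIso_unitQ_colimit (C : J ⥤ CochainComplex X.Modules ℤ) (n : ℤ) (hC : ∀ j, (C.obj j).IsGE n)
    (h : ∀ j, IsIso ((unitQ f).app (C.obj j))) {c : Cocone C} (hc : IsColimit c) :
    IsIso ((unitQ f).app c.pt) := by
  haveI := DerPush.isGrothendieckAbelian_modules S
  haveI := preservesColimitsOfShape_pushforward f J
  let FC := (Scheme.Modules.pushforward f).mapHomologicalComplex (ComplexShape.up ℤ)
  haveI : PreservesColimitsOfShape J FC :=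
    ⟨fun {D} => ⟨fun hc => ⟨HomologicalComplex.isColimitOfEval _ _ fun k =>
      isColimitOfPreserves (HomologicalComplex.eval X.Modules (ComplexShape.up ℤ) k ⋙ Scheme.Modules.pushforward f) hc⟩⟩⟩
  refine (DerivedCategory.isIso_iff S.Modules ((unitQ f).app c.pt)).2 fun i => ?_
  haveI := preservesColimitsOfShape_homology (A := S.Modules) (J := J) (ComplexShape.up ℤ) i
  let H := DerivedCategory.homologyFunctor S.Modules i
  let τ : FC ⋙ HomologicalComplex.homologyFunctor S.Modules (ComplexShape.up ℤ) i ⟶ rpushH f i :=
    Functor.whiskerLeft FC (DerivedCategory.homologyFunctorFactors S.Modules i).inv ≫ (Functor.associator _ _ _).inv ≫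
      Functor.whiskerRight (unitQ f) H
  haveI : ∀ j, IsIso (τ.app (C.obj j)) := fun j => by
    haveI := h j
    dsimp [τ]
    infer_instance
  obtain ⟨hR⟩ := isColimit_rpushH f C n hC hc i
  let e : C ⋙ FC ⋙ HomologicalComplex.homologyFunctor S.Modules (ComplexShape.up ℤ) i ≅ C ⋙ rpushH f i :=
    NatIso.ofComponents (fun j => asIso (τ.app (C.obj j))) fun {a b} g => τ.naturality (C.map g)
  let E := (isColimitOfPreserves (FC ⋙ HomologicalComplex.homologyFunctor S.Modules (ComplexShape.up ℤ) i) hc).coconePointsIsoOfNatIso hR e
  have hτ : IsIso (τ.app c.pt) := by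
    have : τ.app c.pt = E.hom :=
      (isColimitOfPreserves (FC ⋙ HomologicalComplex.homologyFunctor S.Modules (ComplexShape.up ℤ) i) hc).hom_ext fun j =>
        (τ.naturality (c.ι.app j)).trans (IsColimit.comp_coconePointsIsoOfNatIso_hom _ hR e j).symm
    rw [this]
    infer_instance
  dsimp [τ] at hτ
  rw [Category.id_comp, isIso_comp_left_iff] at hτ
  exact hτ

end Groth.Agent.DQPush
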