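import Groth.Agent.DQPush.Coprod
import Groth.Agent.FilKInj.Diagram

/-!
`Rf_*` and filtered colimits of complexes which are uniformly bounded below.
-/

set_option autoImplicit false
set_option backward.isDefEq.respectTransparency false
set_option backward.isDefEq.respectTransparency.types false
set_option linter.style.haveILetI false

universe u

open CategoryTheory Limits AlgebraicGeometry Opposite TopologicalSpace

attribute [local instance] HasDerivedCategory.standard

namespace Groth.Agent.DQPush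

variable {X S : Scheme.{u}}

/-- `K ↦ Hⁱ(Rf_* K)` on complexes -/
noncomputable abbrev rpushH (f : X ⟶ S) [DCoh.HasRpush f] (i : ℤ) : CochainComplex X.Modules ℤ ⥤ S.Modules :=
  DerivedCategory.Q ⋙ DCoh.Rpush f ⋙ DerivedCategory.homologyFunctor S.Modules i

/-- a bounded below resolution of a directed diagram by complexes of injectives -/
theorem exists_diagram_resolution {ι : Type u} [Preorder ι] (C : ι ⥤ CochainComplex X.Modules ℤ) (n : ℤ)
    (hC : ∀ j, (C.obj j).IsGE n) :
    ∃ (M R : ι ⥤ CochainComplex X.Modules ℤ) (π : C ⟶ M) (η : M ⟶ R),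
      (∀ j, QuasiIso (π.app j)) ∧ (∀ j, QuasiIso (η.app j)) ∧ (∀ j, (R.obj j).IsStrictlyGE n) ∧
      ∀ j k, Injective ((R.obj j).X k) := by
  haveI := DerPush.isGrothendieckAbelian_modules X
  let e : ι ⥤ (ιᵒᵈ)ᵒᵖ :=
    { obj := fun i => op (OrderDual.toDual i), map := fun h => (homOfLE (X := ιᵒᵈ) (leOfHom h)).op }
  let e' : (ιᵒᵈ)ᵒᵖ ⥤ ι :=
    { obj := fun i => OrderDual.ofDual i.unop, map := fun h => homOfLE (X := ι) (leOfHom h.unop) }
  let D := FilKInj.ofDiagram (e' ⋙ C)
  haveI : D.IsGE n := (CochainComplex.isGE_iff _ _).2 fun k hk => by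
    rw [HomologicalComplex.exactAt_iff]
    rw [ShortComplex.exact_iff_isZero_homology, Functor.isZero_iff]
    intro c
    refine IsZero.of_iso ?_ ((D.sc k).mapHomologyIso ((evaluation _ X.Modules).obj c)).symm
    rw [← ShortComplex.exact_iff_isZero_homology]
    exact (haveI := hC (e'.obj c); (C.obj (e'.obj c)).exactAt_of_isGE n k hk)
  obtain ⟨I, s, hs, hI, hGE⟩ := CochainComplex.Plus.modelCategoryQuillen.exists_quasiIso_injective (D.truncGE n) n
  haveI := hs
  haveI := hGE
  refine ⟨C, e ⋙ I.asFunctor, 𝟙 C,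
    { app := fun j => { f := fun k => ((D.πTruncGE n ≫ s).f k).app (e.obj j)
                        comm' := fun k l _ => congrArg (fun τ => NatTrans.app τ (e.obj j)) ((D.πTruncGE n ≫ s).comm k l) }
      naturality := fun a b h => HomologicalComplex.hom_ext _ _ fun k => by
        rw [HomologicalComplex.comp_f, HomologicalComplex.comp_f]
        exact ((D.πTruncGE n ≫ s).f k).naturality (e.map h) },
    fun j => inferInstance, fun j => ?_, fun j => ?_, fun j k => FilKInj.injective_app _ (hI k)⟩
  · exact (HomologicalComplex.quasiIso_map_of_preservesHomology (D.πTruncGE n ≫ s) ((evaluation _ X.Modules).obj (e.obj j)) : _)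
  · exact (CochainComplex.isStrictlyGE_iff _ _).2 fun k hk =>
      (Functor.isZero_iff _).1 (I.isZero_of_isStrictlyGE n k hk) (e.obj j)

section Compact

variable (f : X ⟶ S) [DCoh.HasRpush f] [QuasiCompact f] [QuasiSeparatedSpace X] [QuasiSeparatedSpace S]
  {ι : Type u} [Preorder ι] [IsDirected ι (· ≤ ·)] [Nonempty ι]

/-- colimit of complexes of injectives -/
theorem isColimit_rpushH_injective (R : ι ⥤ CochainComplex X.Modules ℤ) (n : ℤ) (hR : ∀ j, (R.obj j).IsStrictlyGE n)
    (hI : ∀ j k, Injective ((R.obj j).X k)) {c : Cocone R} (hc : IsColimit c) (i : ℤ) :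
    Nonempty (IsColimit ((rpushH f i).mapCocone c)) := by
  haveI := hasInj X
  haveI := DerPush.isGrothendieckAbelian_modules S
  haveI : IsFiltered ι := inferInstance
  haveI := preservesColimitsOfShape_push (ι := ι) f
  haveI := preservesColimitsOfShape_homology (A := S.Modules) (J := ι) (ComplexShape.up ℤ) i
  let FC := (Scheme.Modules.pushforward f).mapHomologicalComplex (ComplexShape.up ℤ)
  haveI : PreservesColimitsOfShape ι FC :=
    ⟨fun {D} => ⟨fun hc => ⟨HomologicalComplex.isColimitOfEval _ _ fun k =>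
      isColimitOfPreserves (HomologicalComplex.eval X.Modules (ComplexShape.up ℤ) k ⋙ Scheme.Modules.pushforward f) hc⟩⟩⟩
  haveI : c.pt.IsStrictlyGE n := (CochainComplex.isStrictlyGE_iff _ _).2 fun k hk => by
    rw [IsZero.iff_id_eq_zero]
    exact (isColimitOfPreserves (HomologicalComplex.eval X.Modules (ComplexShape.up ℤ) k) hc).hom_ext fun j =>
      ((haveI := hR j; (R.obj j).isZero_of_isStrictlyGE n k hk)).eq_of_src _ _
  haveI hu : IsIso ((unitQ f).app c.pt) := isIso_unitQ_of_bdd f _ n fun k m hm =>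
    isZero_rpush_of_qf f (qf_colimit (isColimitOfPreserves (HomologicalComplex.eval X.Modules (ComplexShape.up ℤ) k) hc)
      fun j => (haveI : Injective ((R ⋙ HomologicalComplex.eval X.Modules (ComplexShape.up ℤ) k).obj j) := hI j k; qf_of_injective _)) hm
  haveI : ∀ j, IsIso ((unitQ f).app (R.obj j)) := fun j =>
    haveI := hR j
    isIso_unitQ_of_bdd f _ n fun k m hm => isZero_rpush_of_qf f (haveI := hI j k; qf_of_injective _) hm
  let H := DerivedCategory.homologyFunctor S.Modules i
  let τ : FC ⋙ HomologicalComplex.homologyFunctor S.Modules (ComplexShape.up ℤ) i ⟶ rpushH f i :=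
    Functor.whiskerLeft FC (DerivedCategory.homologyFunctorFactors S.Modules i).inv ≫ (Functor.associator _ _ _).inv ≫
      Functor.whiskerRight (unitQ f) H
  haveI hτ : ∀ K, IsIso ((unitQ f).app K) → IsIso (τ.app K) := fun K _ => by
    dsimp [τ]
    infer_instance
  haveI : ∀ j, IsIso (τ.app (R.obj j)) := fun j => hτ _ inferInstance
  haveI := hτ _ hu
  refine ⟨(IsColimit.precomposeHomEquiv (NatIso.ofComponents (fun j => asIso (τ.app (R.obj j)))
    fun {a b} h => τ.naturality (R.map h)) _).1 (IsColimit.ofIsoColimit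
      (isColimitOfPreserves (FC ⋙ HomologicalComplex.homologyFunctor S.Modules (ComplexShape.up ℤ) i) hc)
      (Cocone.ext (asIso (τ.app c.pt)) fun j => by exact τ.naturality (c.ι.app j)))⟩

/-- directed colimits, quasi-separated base -/
theorem isColimit_rpushH_directed (C : ι ⥤ CochainComplex X.Modules ℤ) (n : ℤ) (hC : ∀ j, (C.obj j).IsGE n)
    {c : Cocone C} (hc : IsColimit c) (i : ℤ) : Nonempty (IsColimit ((rpushH f i).mapCocone c)) := by
  haveI := DerPush.isGrothendieckAbelian_modules X
  haveI : IsFiltered ι := inferInstance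
  obtain ⟨M, R, π, η, hπ, hη, hGE, hI⟩ := exists_diagram_resolution C n hC
  let α : C ⟶ R := π ≫ η
  haveI : ∀ j, QuasiIso (α.app j) := fun j => by
    haveI := hπ j; haveI := hη j
    exact (inferInstance : QuasiIso (π.app j ≫ η.app j))
  let cR := colimit.cocone R
  let φ : c.pt ⟶ cR.pt := hc.map cR α
  haveI : QuasiIso φ := ⟨fun k => by
    rw [quasiIsoAt_iff_isIso_homologyMap]
    haveI := preservesColimitsOfShape_homology (A := X.Modules) (J := ι) (ComplexShape.up ℤ) k
    let HX := HomologicalComplex.homologyFunctor X.Modules (ComplexShape.up ℤ) k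
    let e : C ⋙ HX ≅ R ⋙ HX := NatIso.ofComponents (fun j => asIso (HomologicalComplex.homologyMap (α.app j) k))
      fun {a b} h => ((HX.map_comp _ _).symm.trans (congrArg HX.map (α.naturality h))).trans (HX.map_comp _ _)
    let E := (isColimitOfPreserves HX hc).coconePointsIsoOfNatIso (isColimitOfPreserves HX (colimit.isColimit R)) e
    have : HomologicalComplex.homologyMap φ k = E.hom := by
      refine (isColimitOfPreserves HX hc).hom_ext fun j => ?_
      refine Eq.trans ?_ (IsColimit.comp_coconePointsIsoOfNatIso_hom (isColimitOfPreserves HX hc)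
        (isColimitOfPreserves HX (colimit.isColimit R)) e j).symm
      exact (HX.map_comp _ _).symm.trans ((congrArg HX.map (hc.ι_map cR α j)).trans (HX.map_comp _ _))
    rw [this]
    infer_instance⟩
  obtain ⟨h⟩ := isColimit_rpushH_injective f R n hGE hI (colimit.isColimit R) i
  haveI : IsIso ((rpushH f i).map φ) :=
    (inferInstance : IsIso ((DerivedCategory.homologyFunctor S.Modules i).map ((DCoh.Rpush f).map (DerivedCategory.Q.map φ))))
  haveI : ∀ j, IsIso ((rpushH f i).map (α.app j)) := fun j =>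
    (inferInstance : IsIso ((DerivedCategory.homologyFunctor S.Modules i).map ((DCoh.Rpush f).map (DerivedCategory.Q.map (α.app j)))))
  refine ⟨(IsColimit.precomposeHomEquiv (NatIso.ofComponents (fun j => (asIso ((rpushH f i).map (α.app j))).symm)
    fun {a b} h => ?_) _).1 (IsColimit.ofIsoColimit h (Cocone.ext (asIso ((rpushH f i).map φ)).symm fun j => ?_))⟩
  · change (rpushH f i).map (R.map h) ≫ inv _ = inv _ ≫ (rpushH f i).map (C.map h)
    rw [IsIso.comp_inv_eq, Category.assoc, IsIso.eq_inv_comp]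
    rw [← Functor.map_comp, ← Functor.map_comp, α.naturality]
  · change (rpushH f i).map (cR.ι.app j) ≫ inv _ = inv _ ≫ (rpushH f i).map (c.ι.app j)
    rw [IsIso.comp_inv_eq, Category.assoc, IsIso.eq_inv_comp]
    rw [← Functor.map_comp, ← Functor.map_comp, hc.ι_map cR α j]

end Compact

variable (f : X ⟶ S) [DCoh.HasRpush f] [QuasiCompact f] [QuasiSeparated f]

/-- `Hⁱ Rf_*` commutes with restriction to opens of the base -/
noncomputable def rpushHRestrIso (V : S.Opens) [DCoh.HasRpush (f ∣_ V)] (i : ℤ) :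
    rpushH f i ⋙ Scheme.Modules.restrictFunctor V.ι ≅
      (Scheme.Modules.restrictFunctor (f ⁻¹ᵁ V).ι).mapHomologicalComplex (ComplexShape.up ℤ) ⋙ rpushH (f ∣_ V) i :=
  Functor.associator _ _ _ ≪≫ Functor.isoWhiskerLeft _ (Functor.associator _ _ _) ≪≫
  Functor.isoWhiskerLeft DerivedCategory.Q (Functor.isoWhiskerLeft (DCoh.Rpush f)
      (DQCoh.homologyDerIso (Scheme.Modules.restrictFunctor V.ι) i).symm ≪≫ (Functor.associator _ _ _).symm ≪≫
    Functor.isoWhiskerRight (rpushRestrIso f V) _ ≪≫ Functor.associator _ _ _) ≪≫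
  (Functor.associator _ _ _).symm ≪≫
  Functor.isoWhiskerRight (Scheme.Modules.restrictFunctor (f ⁻¹ᵁ V).ι).mapDerivedCategoryFactors _ ≪≫
  Functor.associator _ _ _

/-- being a colimit after `Hⁱ Rf_*` is local on the base -/
theorem isColimit_rpushH_of_local {J : Type u} [SmallCategory J] (C : J ⥤ CochainComplex X.Modules ℤ)
    {c : Cocone C} (i : ℤ)
    (h : ∀ y : S, ∃ (V : S.Opens), y ∈ V ∧ ∃ (_ : DCoh.HasRpush (f ∣_ V)),
      Nonempty (IsColimit (((Scheme.Modules.restrictFunctor (f ⁻¹ᵁ V).ι).mapHomologicalComplex (ComplexShape.up ℤ) ⋙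
        rpushH (f ∣_ V) i).mapCocone c))) :
    Nonempty (IsColimit ((rpushH f i).mapCocone c)) := by
  haveI := DerPush.isGrothendieckAbelian_modules S
  let G := rpushH f i
  let φ : colimit (C ⋙ G) ⟶ G.obj c.pt := colimit.desc _ (G.mapCocone c)
  suffices IsIso φ from
    ⟨IsColimit.ofIsoColimit (colimit.isColimit (C ⋙ G)) (Cocone.ext (asIso φ) fun j => colimit.ι_desc _ _)⟩
  choose V hV hrp hcol using h
  refine QC.isIso_of_restrict_cover (fun y => (V y).ι) (fun y => ⟨y, ⟨⟨y, hV y⟩, rfl⟩⟩) _ fun y => ?_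
  haveI := hrp y
  let R := Scheme.Modules.restrictFunctor (V y).ι
  haveI : PreservesColimitsOfSize.{u, u} R := (Scheme.Modules.restrictAdjunction _).leftAdjoint_preservesColimits
  obtain ⟨h'⟩ := hcol y
  let e := rpushHRestrIso f (V y) i
  have hG : IsColimit (R.mapCocone (G.mapCocone c)) :=
    (IsColimit.mapCoconeEquiv e.symm h' : IsColimit ((G ⋙ R).mapCocone c))
  let E := (isColimitOfPreserves R (colimit.isColimit (C ⋙ G))).coconePointUniqueUpToIso hG
  have : R.map φ = E.hom := (isColimitOfPreserves R (colimit.isColimit (C ⋙ G))).hom_ext fun j => by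
    refine Eq.trans ?_ (IsColimit.comp_coconePointUniqueUpToIso_hom (isColimitOfPreserves R (colimit.isColimit (C ⋙ G))) hG j).symm
    exact (R.map_comp _ _).symm.trans (congrArg R.map (colimit.ι_desc _ _))
  change IsIso (R.map φ)
  rw [this]
  infer_instance

/-- filtered colimits of complexes uniformly bounded below -/
theorem isColimit_rpushH {J : Type u} [SmallCategory J] [IsFiltered J] (C : J ⥤ CochainComplex X.Modules ℤ)
    (n : ℤ) (hC : ∀ j, (C.obj j).IsGE n) {c : Cocone C} (hc : IsColimit c) (i : ℤ) :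
    Nonempty (IsColimit ((rpushH f i).mapCocone c)) := by
  refine isColimit_rpushH_of_local f C i fun y => ?_
  obtain ⟨V, hV, h1, h2, h3⟩ := exists_affine_base f y
  haveI := h1; haveI := h2; haveI := h3
  haveI := DerPush.hasRpush_sch (f ∣_ V)
  let RX := Scheme.Modules.restrictFunctor (f ⁻¹ᵁ V).ι
  let RC := RX.mapHomologicalComplex (ComplexShape.up ℤ)
  haveI : PreservesColimitsOfSize.{u, u} RX := (Scheme.Modules.restrictAdjunction _).leftAdjoint_preservesColimits
  haveI : PreservesColimitsOfShape J RC :=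
    ⟨fun {D} => ⟨fun hc => ⟨HomologicalComplex.isColimitOfEval _ _ fun k =>
      isColimitOfPreserves (HomologicalComplex.eval X.Modules (ComplexShape.up ℤ) k ⋙ RX) hc⟩⟩⟩
  obtain ⟨α, _, hdir, hne, F, hF⟩ := IsFiltered.exists_directed J
  haveI := hdir; haveI := hne; haveI := hF
  have hGE : ∀ a, CochainComplex.IsGE ((F ⋙ C ⋙ RC).obj a) n := fun a => (CochainComplex.isGE_iff _ _).2 fun k hk => by
    rw [HomologicalComplex.exactAt_iff]
    exact ((haveI := hC (F.obj a); (C.obj (F.obj a)).exactAt_of_isGE n k hk)).map RX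
  obtain ⟨h⟩ := isColimit_rpushH_directed (f ∣_ V) (F ⋙ C ⋙ RC) n hGE
    ((Functor.Final.isColimitWhiskerEquiv F _).symm (isColimitOfPreserves RC hc)) i
  have h' : IsColimit ((RC ⋙ rpushH (f ∣_ V) i).mapCocone c) :=
    Functor.Final.isColimitWhiskerEquiv F _ (IsColimit.ofIsoColimit h (Cocone.ext (Iso.refl _) fun a => Category.comp_id _))
  exact ⟨V, hV, inferInstance, ⟨h'⟩⟩

section QCoh

open DQCoh in
/-- for complexes with quasi-coherent cohomology, isomorphisms in high degrees push forward to such -/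
theorem exists_isIso_rpushH [CompactSpace S] : ∃ N : ℕ, ∀ {A B : CochainComplex X.Modules ℤ} (φ : A ⟶ B),
    DCoh.IsQCohD (DCoh.toD X A) → DCoh.IsQCohD (DCoh.toD X B) → ∀ n i : ℤ, n + (N : ℤ) ≤ i →
      (∀ m, n ≤ m → IsIso (HomologicalComplex.homologyMap φ m)) → IsIso ((rpushH f i).map φ) := by
  haveI : SiteCmp.HasRpushD (ModSite.RMor.ofScheme f) := ‹DCoh.HasRpush f›
  obtain ⟨N, hN⟩ := exists_amplitude f
  refine ⟨N + 1, fun {A B} φ hA hB n j hj hφ' => ?_⟩
  have hφ : ∀ m, n ≤ m → IsIso ((DerivedCategory.homologyFunctor X.Modules m).map (DerivedCategory.Q.map φ)) :=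
    fun m hm => (NatIso.isIso_map_iff (DerivedCategory.homologyFunctorFactors X.Modules m) φ).2 (hφ' m hm)
  obtain ⟨C, v, w, hT⟩ := Pretriangulated.distinguished_cocone_triangle (DerivedCategory.Q.map φ)
  obtain ⟨c, hT'⟩ := RPushSite.exists_rpush_triangle (ModSite.RMor.ofScheme f) _ _ _ hT
  have hC : DCoh.IsQCohD C := fun i => isQCoh_of_exact₅ _ _ _ _ _ _ _
    (DerivedCategory.HomologySequence.exact₂ _ hT i)
    (DerivedCategory.HomologySequence.exact₃ _ hT i (i + 1) rfl)
    (DerivedCategory.HomologySequence.exact₁ _ hT i (i + 1) rfl) (hA i) (hB i) (hA (i + 1)) (hB (i + 1))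
  have hm : MIsoD n (DerivedCategory.Q.map φ) := ⟨fun i hi => hφ i hi.le, haveI := hφ n le_rfl; inferInstance⟩
  have hab : IsAboveD n C := (mIsoD_iff n _ hT).1 hm
  haveI : C.IsLE (n - 1) := (DerivedCategory.isLE_iff _ _).2 fun i hi => hab i (by omega)
  exact ((mIsoD_iff (n - 1 + N) _ hT').2 fun i hi => hN _ hC (n - 1) inferInstance i hi).1 j (by push_cast at hj; omega)

/-- filtered colimits of complexes with quasi-coherent cohomology -/
theorem isColimit_rpushH_qcoh {J : Type u} [SmallCategory J] [IsFiltered J] (C : J ⥤ CochainComplex X.Modules ℤ)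
    (hC : ∀ j, DCoh.IsQCohD (DCoh.toD X (C.obj j))) {c : Cocone C} (hc : IsColimit c) (i : ℤ) :
    Nonempty (IsColimit ((rpushH f i).mapCocone c)) := by
  refine isColimit_rpushH_of_local f C i fun y => ?_
  obtain ⟨V, hV, h1, h2, h3⟩ := exists_affine_base f y
  haveI := h1; haveI := h2; haveI := h3
  haveI := DerPush.hasRpush_sch (f ∣_ V)
  refine ⟨V, hV, inferInstance, ?_⟩
  let RX := Scheme.Modules.restrictFunctor (f ⁻¹ᵁ V).ι
  let RC := RX.mapHomologicalComplex (ComplexShape.up ℤ)
  haveI : PreservesColimitsOfSize.{u, u} RX := (Scheme.Modules.restrictAdjunction _).leftAdjoint_preservesColimits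
  haveI : PreservesColimitsOfShape J RC :=
    ⟨fun {D} => ⟨fun hc => ⟨HomologicalComplex.isColimitOfEval _ _ fun k =>
      isColimitOfPreserves (HomologicalComplex.eval X.Modules (ComplexShape.up ℤ) k ⋙ RX) hc⟩⟩⟩
  haveI := DerPush.isGrothendieckAbelian_modules (f ⁻¹ᵁ V).toScheme
  let D := C ⋙ RC
  have hD : IsColimit (RC.mapCocone c) := isColimitOfPreserves RC hc
  have hq : ∀ j, DCoh.IsQCohD (DCoh.toD _ (D.obj j)) := fun j m =>
    QC.isQCoh_of_iso ((DerivedCategory.homologyFunctor _ m).mapIso (RX.mapDerivedCategoryFactors.app (C.obj j)))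
      (isQCohD_restrictD _ (hC j) m)
  obtain ⟨N, hN⟩ := exists_isIso_rpushH (f ∣_ V)
  let n : ℤ := i - N
  let T : J ⥤ CochainComplex (f ⁻¹ᵁ V).toScheme.Modules ℤ :=
    { obj := fun j => CochainComplex.truncGE (D.obj j) n
      map := fun h => CochainComplex.truncGEMap (D.map h) n
      map_id := fun j => (congrArg (HomologicalComplex.truncGEMap · _) (D.map_id j)).trans (HomologicalComplex.truncGEMap_id _ _)
      map_comp := fun g h => (congrArg (HomologicalComplex.truncGEMap · _) (D.map_comp g h)).trans (HomologicalComplex.truncGEMap_comp _ _ _) }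
  let π : D ⟶ T :=
    { app := fun j => CochainComplex.πTruncGE (D.obj j) n
      naturality := fun _ _ h => (CochainComplex.πTruncGE_naturality (D.map h) n).symm }
  have hiso : ∀ j m, n ≤ m → IsIso (HomologicalComplex.homologyMap (π.app j) m) := fun j m hm =>
    (quasiIsoAt_iff_isIso_homologyMap _ _).1 (CochainComplex.quasiIsoAt_πTruncGE (D.obj j) n m hm)
  have toH : ∀ (K : CochainComplex (f ⁻¹ᵁ V).toScheme.Modules ℤ) (m : ℤ),
      DCoh.HD (DCoh.toD _ K) m ≅ K.homology m := fun K m =>
    (DerivedCategory.homologyFunctorFactors _ m).app K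
  haveI hTge : ∀ j, CochainComplex.IsGE (T.obj j) n := fun j =>
    (inferInstance : CochainComplex.IsGE (CochainComplex.truncGE (D.obj j) n) n)
  have hTq : ∀ j m, Coh.IsQCoh ((T.obj j).homology m) := fun j m => by
    rcases lt_or_ge m n with h | h
    · exact DQCoh.isQCoh_of_isZero ((CochainComplex.exactAt_of_isGE (T.obj j) n m h).isZero_homology)
    · haveI := hiso j m h
      exact QC.isQCoh_of_iso ((toH (D.obj j) m) ≪≫ asIso (HomologicalComplex.homologyMap (π.app j) m)) (hq j m)
  haveI : ∀ m, PreservesColimitsOfShape J (HomologicalComplex.homologyFunctor (f ⁻¹ᵁ V).toScheme.Modules (ComplexShape.up ℤ) m) :=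
    fun m => preservesColimitsOfShape_homology (ComplexShape.up ℤ) m
  let HX := fun m => HomologicalComplex.homologyFunctor (f ⁻¹ᵁ V).toScheme.Modules (ComplexShape.up ℤ) m
  have hDq : DCoh.IsQCohD (DCoh.toD _ (RC.mapCocone c).pt) := fun m => QC.isQCoh_of_iso (toH _ m).symm
    (QC.isQCoh_of_iso ((colimit.isColimit _).coconePointUniqueUpToIso (isColimitOfPreserves (HX m) hD))
      (QC.isQCoh_colimit _ fun j => QC.isQCoh_of_iso (toH (D.obj j) m) (hq j m)))
  have hTcq : DCoh.IsQCohD (DCoh.toD _ (colimit T)) := fun m => QC.isQCoh_of_iso (toH _ m).symm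
    (QC.isQCoh_of_iso ((colimit.isColimit _).coconePointUniqueUpToIso (isColimitOfPreserves (HX m) (colimit.isColimit T)))
      (QC.isQCoh_colimit _ fun j => hTq j m))
  let φ : (RC.mapCocone c).pt ⟶ colimit T := hD.map (colimit.cocone T) π
  haveI hφ : IsIso ((rpushH (f ∣_ V) i).map φ) := hN φ hDq hTcq n i (by omega) fun m hm => by
    haveI := fun j => hiso j m hm
    let e : D ⋙ HX m ≅ T ⋙ HX m := NatIso.ofComponents (fun j => asIso (HomologicalComplex.homologyMap (π.app j) m))
      fun {a b} h => (((HX m).map_comp _ _).symm.trans (congrArg (HX m).map (π.naturality h))).trans ((HX m).map_comp _ _)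
    let E := (isColimitOfPreserves (HX m) hD).coconePointsIsoOfNatIso (isColimitOfPreserves (HX m) (colimit.isColimit T)) e
    have : HomologicalComplex.homologyMap φ m = E.hom := by
      refine (isColimitOfPreserves (HX m) hD).hom_ext fun j => ?_
      refine Eq.trans ?_ (IsColimit.comp_coconePointsIsoOfNatIso_hom (isColimitOfPreserves (HX m) hD)
        (isColimitOfPreserves (HX m) (colimit.isColimit T)) e j).symm
      exact ((HX m).map_comp _ _).symm.trans ((congrArg (HX m).map (hD.ι_map (colimit.cocone T) π j)).trans ((HX m).map_comp _ _))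
    rw [this]
    infer_instance
  haveI : ∀ j, IsIso ((rpushH (f ∣_ V) i).map (π.app j)) := fun j => hN (π.app j) (hq j)
    (fun m => QC.isQCoh_of_iso (toH _ m).symm (hTq j m)) n i (by omega) (hiso j)
  obtain ⟨h⟩ := isColimit_rpushH (f ∣_ V) T n hTge (colimit.isColimit T) i
  refine ⟨(IsColimit.precomposeHomEquiv (NatIso.ofComponents (fun j => (asIso ((rpushH (f ∣_ V) i).map (π.app j))).symm)
    fun {a b} h => ?_) _).1 (IsColimit.ofIsoColimit h (Cocone.ext (asIso ((rpushH (f ∣_ V) i).map φ)).symm fun j => ?_))⟩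
  · change (rpushH (f ∣_ V) i).map (T.map h) ≫ inv _ = inv _ ≫ (rpushH (f ∣_ V) i).map (D.map h)
    rw [IsIso.comp_inv_eq, Category.assoc, IsIso.eq_inv_comp]
    rw [← Functor.map_comp, ← Functor.map_comp, π.naturality]
  · change (rpushH (f ∣_ V) i).map ((colimit.cocone T).ι.app j) ≫ inv _ = inv _ ≫ (rpushH (f ∣_ V) i).map (RC.map (c.ι.app j))
    rw [IsIso.comp_inv_eq, Category.assoc, IsIso.eq_inv_comp]
    rw [← Functor.map_comp, ← Functor.map_comp]
    exact congrArg _ (hD.ι_map (colimit.cocone T) π j).symm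

end QCoh

end Groth.Agent.DQPush
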