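import Groth.Agent.DQPush.Affine
import Groth.Agent.RelPCS.RingChart
import Groth.Agent.RelPCS.Descend

/-!
Pseudo-coherence and direct image along affine morphisms with pseudo-coherent direct image of `O`.
-/

set_option autoImplicit false
set_option backward.isDefEq.respectTransparency false
set_option backward.isDefEq.respectTransparency.types false
set_option linter.style.haveILetI false

universe u

open CategoryTheory Limits AlgebraicGeometry Opposite TopologicalSpace Pretriangulated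

attribute [local instance] HasDerivedCategory.standard

namespace Groth.Agent.DQPush

open Groth.Agent.DQCoh

variable {X Y : Scheme.{u}} (f : X ⟶ Y) [IsAffineHom f] [DCoh.HasRpush f]

/-- local data of an affine morphism over an affine open -/
theorem exists_chart_data (E : DCoh.D X) (hE : DCoh.IsQCohD E) (V : Y.Opens) (hV : IsAffineOpen V) :
    ∃ (A B : Type u) (_ : CommRing A) (_ : CommRing B) (φ : A →+* B)
      (j : Spec (CommRingCat.of A) ⟶ Y) (j' : Spec (CommRingCat.of B) ⟶ X) (_ : IsOpenImmersion j)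
      (_ : IsOpenImmersion j') (M : Dual.D B),
      Set.range j.base = (V : Set Y) ∧ Set.range j'.base = f.base ⁻¹' (V : Set Y) ∧
      Nonempty ((DCoh.tildeD (CommRingCat.of B)).obj M ≅ (RD j').obj E) ∧
      Nonempty ((DCoh.tildeD (CommRingCat.of A)).obj ((DRing.restrictD φ).obj M) ≅
        (RD j).obj ((DCoh.Rpush f).obj E)) ∧
      Nonempty ((DCoh.tildeD (CommRingCat.of A)).obj ((DRing.restrictD φ).obj (Dual.inD B B)) ≅
        (RD j).obj (DCoh.inD Y ((Scheme.Modules.pushforward f).obj (Coh.structureModule X)))) := by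
  have hU := hV.preimage f
  let φ : Γ(Y, V) →+* Γ(X, f ⁻¹ᵁ V) := (f.app V).hom
  let j : Spec (CommRingCat.of Γ(Y, V)) ⟶ Y := hV.fromSpec
  let j' : Spec (CommRingCat.of Γ(X, f ⁻¹ᵁ V)) ⟶ X := hU.fromSpec
  haveI : IsOpenImmersion j := inferInstanceAs (IsOpenImmersion hV.fromSpec)
  haveI : IsOpenImmersion j' := inferInstanceAs (IsOpenImmersion hU.fromSpec)
  let g := Spec.map (CommRingCat.ofHom φ)
  haveI := DerPush.hasRpush_sch g
  have w : g ≫ j = j' ≫ f := by
    have := IsAffineOpen.SpecMap_appLE_fromSpec f hV hU le_rfl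
    rwa [← Scheme.Hom.app_eq_appLE] at this
  have hr : j'.opensRange = f ⁻¹ᵁ j.opensRange := by
    change hU.fromSpec.opensRange = f ⁻¹ᵁ hV.fromSpec.opensRange
    rw [hU.opensRange_fromSpec, hV.opensRange_fromSpec]
  have hq : DCoh.IsQCohD ((RD j').obj E) := fun i =>
    QC.isQCoh_of_iso ((homologyDerIso (Scheme.Modules.restrictFunctor j') i).app E).symm (QC.isQCoh_restrict j' (hE i))
  obtain ⟨M, ⟨eM⟩⟩ := RelPCS.exists_tilde_rep ((RD j').obj E) hq
  refine ⟨Γ(Y, V), Γ(X, f ⁻¹ᵁ V), inferInstance, inferInstance, φ, j, j', inferInstance, inferInstance, M,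
    hV.range_fromSpec, hU.range_fromSpec, ⟨eM⟩, ⟨?_⟩, ⟨?_⟩⟩
  · exact ((rpushTildeIso φ).app M).symm ≪≫ (DCoh.Rpush g).mapIso eM ≪≫
      ((rpushBCIso f g j j' w hr).app E).symm
  · refine (DCoh.tildeD (CommRingCat.of Γ(Y, V))).mapIso
      (((ModuleCat.restrictScalars.{u} φ).mapDerivedCategorySingleFunctor 0).app (ModuleCat.of _ Γ(X, f ⁻¹ᵁ V))) ≪≫
      ((tilde.functor (CommRingCat.of Γ(Y, V))).mapDerivedCategorySingleFunctor 0).app _ ≪≫
      (DerivedCategory.singleFunctor (Spec (CommRingCat.of Γ(Y, V))).Modules 0).mapIso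
        ((RelPCS.pushTildeIso (CommRingCat.ofHom φ)).symm.app _ ≪≫
          (Scheme.Modules.pushforward g).mapIso (AlgebraicGeometry.tildeSelf (R := CommRingCat.of Γ(X, f ⁻¹ᵁ V)) ≪≫
            (Scheme.Modules.restrictUnitIso j').symm) ≪≫
          ((RelPCS.bcPushIso f g j j' w hr).app _).symm) ≪≫ (RelPCS.rdInD j _).symm

/-- pseudo-coherence of `E` and of `Rf_* E` -/
theorem pc_rpush_iff (hO : ∀ m : ℤ, DCoh.IsPseudoCoherentD m
      (DCoh.inD Y ((Scheme.Modules.pushforward f).obj (Coh.structureModule X))))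
    (E : DCoh.D X) (hE : DCoh.IsQCohD E) (m : ℤ) :
    DCoh.IsPseudoCoherentD m E ↔ DCoh.IsPseudoCoherentD m ((DCoh.Rpush f).obj E) := by
  have key : ∀ {A B : Type u} [CommRing A] [CommRing B] (φ : A →+* B) (j : Spec (CommRingCat.of A) ⟶ Y)
      [IsOpenImmersion j] (M : Dual.D B),
      Nonempty ((DCoh.tildeD (CommRingCat.of A)).obj ((DRing.restrictD φ).obj (Dual.inD B B)) ≅
        (RD j).obj (DCoh.inD Y ((Scheme.Modules.pushforward f).obj (Coh.structureModule X)))) →
      (DCoh.IsPseudoCoherentD m ((DCoh.tildeD (CommRingCat.of B)).obj M) ↔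
        DCoh.IsPseudoCoherentD m ((DCoh.tildeD (CommRingCat.of A)).obj ((DRing.restrictD φ).obj M))) := by
    intro A B _ _ φ j _ M ⟨e⟩
    have hφ : RelPC.PCHom φ := DRingKP.pc'_iff.2 fun k =>
      (pseudoCoherent_tilde_iff (A := A) _ k).1 (pc_of_iso e.symm (pc_restrict j (hO k)))
    rw [pseudoCoherent_tilde_iff, pseudoCoherent_tilde_iff]
    exact (RelPC.PCHom.pc_iff hφ m M).symm
  constructor
  · intro h
    rw [pc_iff_near]
    intro y
    obtain ⟨_, ⟨(V : Y.Opens), hV, rfl⟩, hyV, -⟩ :=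
      Y.isBasis_affineOpens.exists_subset_of_mem_open (Set.mem_univ y) isOpen_univ
    obtain ⟨A, B, _, _, φ, j, j', hj, hj', M, hrj, hrj', ⟨eB⟩, ⟨eA⟩, hOA⟩ := exists_chart_data f E hE V hV
    haveI := hj; haveI := hj'
    obtain ⟨z, hz⟩ : y ∈ Set.range j.base := hrj.ge hyV
    obtain ⟨U, k, hk, u, hu, hP⟩ :=
      (pc_iff_near m _).1 (pc_of_iso eA ((key φ j M hOA).1 (pc_of_iso eB.symm (pc_restrict j' h)))) z
    haveI := hk
    exact ⟨U, k ≫ j, inferInstance, u, (congrArg j.base hu).trans hz, pcOn_push k j hP⟩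
  · intro h
    rw [pc_iff_near]
    intro x
    obtain ⟨_, ⟨(V : Y.Opens), hV, rfl⟩, hyV, -⟩ :=
      Y.isBasis_affineOpens.exists_subset_of_mem_open (Set.mem_univ (f.base x)) isOpen_univ
    obtain ⟨A, B, _, _, φ, j, j', hj, hj', M, hrj, hrj', ⟨eB⟩, ⟨eA⟩, hOA⟩ := exists_chart_data f E hE V hV
    haveI := hj; haveI := hj'
    obtain ⟨z, hz⟩ : x ∈ Set.range j'.base := hrj'.ge hyV
    obtain ⟨U, k, hk, u, hu, hP⟩ :=
      (pc_iff_near m _).1 (pc_of_iso eB ((key φ j M hOA).2 (pc_of_iso eA.symm (pc_restrict j h)))) z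
    haveI := hk
    exact ⟨U, k ≫ j', inferInstance, u, (congrArg j'.base hu).trans hz, pcOn_push k j' hP⟩

end Groth.Agent.DQPush
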