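import Mathlib.Algebra.Homology.ShortComplex.FunctorEquivalence
import Mathlib.Algebra.Homology.ShortComplex.Limits
import Mathlib.Algebra.Homology.ShortComplex.Abelian
import Groth.Agent.DQCoh.Coprod

/-!
Homology functors preserve exact colimits.
-/

set_option autoImplicit false
set_option backward.isDefEq.respectTransparency false
set_option backward.isDefEq.respectTransparency.types false
set_option linter.style.haveILetI false

universe w w' w'' v u

open CategoryTheory Category Limits

namespace Groth.Agent.DQPush

variable {A : Type u} [Category.{v} A] [Abelian A] {J : Type w} [Category.{w'} J] [HasColimitsOfShape J A]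
  [HasExactColimitsOfShape J A]

/-- homology of short complexes commutes with exact colimits -/
theorem preservesColimitsOfShape_scHomology :
    PreservesColimitsOfShape J (ShortComplex.homologyFunctor A) := by
  refine ⟨fun {D} => ?_⟩
  let S : ShortComplex (J ⥤ A) := (ShortComplex.functorEquivalence J A).inverse.obj D
  let c : Cocone D :=
    { pt := S.map colim
      ι := { app := fun j => S.mapNatTrans (colim.ι j)
             naturality := fun i j φ => by
               apply ShortComplex.hom_ext
               · exact (colimit.w (D ⋙ ShortComplex.π₁) φ).trans (comp_id _).symm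
               · exact (colimit.w (D ⋙ ShortComplex.π₂) φ).trans (comp_id _).symm
               · exact (colimit.w (D ⋙ ShortComplex.π₃) φ).trans (comp_id _).symm } }
  have hc : IsColimit c := ShortComplex.isColimitOfIsColimitπ _
    (IsColimit.ofIsoColimit (colimit.isColimit (D ⋙ ShortComplex.π₁)) (Cocone.ext (Iso.refl _) fun j => comp_id _))
    (IsColimit.ofIsoColimit (colimit.isColimit (D ⋙ ShortComplex.π₂)) (Cocone.ext (Iso.refl _) fun j => comp_id _))
    (IsColimit.ofIsoColimit (colimit.isColimit (D ⋙ ShortComplex.π₃)) (Cocone.ext (Iso.refl _) fun j => comp_id _))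
  refine preservesColimit_of_preserves_colimit_cocone hc ?_
  let e : D ⋙ ShortComplex.homologyFunctor A ≅ S.homology :=
    NatIso.ofComponents (fun j => S.mapHomologyIso ((evaluation J A).obj j)) fun {i j} φ => by
      have h := ShortComplex.homologyMap_mapNatTrans S ((evaluation J A).map φ)
      change ShortComplex.homologyMap (D.map φ) ≫ _ = _ ≫ S.homology.map φ
      have h' : (D.map φ : S.map ((evaluation J A).obj i) ⟶ S.map ((evaluation J A).obj j)) =
          S.mapNatTrans ((evaluation J A).map φ) := by
        apply ShortComplex.hom_ext <;> rfl
      refine (congrArg (fun m : S.map ((evaluation J A).obj i) ⟶ S.map ((evaluation J A).obj j) =>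
        ShortComplex.homologyMap m ≫ (S.mapHomologyIso ((evaluation J A).obj j)).hom) h').trans ?_
      rw [h, assoc, assoc, Iso.inv_hom_id, comp_id]
      rfl
  refine (IsColimit.precomposeHomEquiv e.symm _).1 ?_
  refine IsColimit.ofIsoColimit (colimit.isColimit S.homology) (Cocone.ext (S.mapHomologyIso colim).symm fun j => ?_)
  change colimit.ι S.homology j ≫ (S.mapHomologyIso colim).inv =
    (S.mapHomologyIso ((evaluation J A).obj j)).inv ≫ ShortComplex.homologyMap (S.mapNatTrans (colim.ι j))
  rw [ShortComplex.homologyMap_mapNatTrans, Iso.inv_hom_id_assoc]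
  rfl

variable {ι : Type w''} (cc : ComplexShape ι)

/-- homology of complexes commutes with exact colimits -/
theorem preservesColimitsOfShape_homology (i : ι) :
    PreservesColimitsOfShape J (HomologicalComplex.homologyFunctor A cc i) := by
  haveI := preservesColimitsOfShape_scHomology (A := A) (J := J)
  let a := cc.prev i
  let b := cc.next i
  haveI : PreservesColimitsOfShape J (HomologicalComplex.shortComplexFunctor' A cc a i b) :=
    ⟨fun {D} => ⟨fun {c} hc => ⟨ShortComplex.isColimitOfIsColimitπ _
      (isColimitOfPreserves (HomologicalComplex.eval A cc a) hc)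
      (isColimitOfPreserves (HomologicalComplex.eval A cc i) hc)
      (isColimitOfPreserves (HomologicalComplex.eval A cc b) hc)⟩⟩⟩
  exact preservesColimitsOfShape_of_natIso (HomologicalComplex.homologyFunctorIso' A cc a i b rfl rfl).symm

end Groth.Agent.DQPush
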