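import Groth.Agent.DQPush.Basic
import Groth.Agent.DQCoh.PCCalc
import Groth.Agent.DQCoh.Pseudo

/-!
Pseudo-coherence of `Rf_*` from the bounded case.
-/

set_option autoImplicit false
set_option backward.isDefEq.respectTransparency false
set_option backward.isDefEq.respectTransparency.types false
set_option linter.style.haveILetI false

universe u

open CategoryTheory Limits AlgebraicGeometry Opposite TopologicalSpace Pretriangulated

attribute [local instance] HasDerivedCategory.standard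

namespace Groth.Agent.DQPush

open Groth.Agent.DQCoh

variable {X Y : Scheme.{u}}

lemma isZero_of_restrict_cover {M : X.Modules} {ι : Type u} {U : ι → Scheme.{u}} (j : ∀ i, U i ⟶ X)
    [∀ i, IsOpenImmersion (j i)] (hcov : ∀ x : X, ∃ i, x ∈ Set.range (j i).base)
    (h : ∀ i, IsZero ((Scheme.Modules.restrictFunctor (j i)).obj M)) : IsZero M := by
  let Z := kernel (𝟙 M)
  have hZ : IsZero Z := isZero_kernel_of_mono _
  haveI := QC.isIso_of_restrict_cover j hcov (0 : Z ⟶ M) fun i =>
    ⟨0, ((Scheme.Modules.restrictFunctor (j i)).map_isZero hZ).eq_of_src _ _, (h i).eq_of_src _ _⟩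
  exact hZ.of_iso (asIso (0 : Z ⟶ M)).symm

/-- a pseudo-coherent object of a quasi-compact scheme is bounded above -/
theorem exists_isLE_of_pc [CompactSpace X] {F : DCoh.D X} {m : ℤ} (h : DCoh.IsPseudoCoherentD m F) :
    ∃ b : ℤ, F.IsLE b := by
  have hb : ∀ x : X, ∃ (U : Scheme.{u}) (j : U ⟶ X) (_ : IsOpenImmersion j) (b : ℤ),
      x ∈ Set.range j.base ∧ ∀ i, b < i → IsZero ((Scheme.Modules.restrictFunctor j).obj (DCoh.HD F i)) := by
    intro x
    obtain ⟨U, j, hj, u, hu, E, α, hE, hα⟩ := (pc_iff_near m _).1 h x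
    haveI := hj
    obtain ⟨⟨a, b, hab⟩, -⟩ := hE
    refine ⟨U, j, hj, max m b, ⟨u, hu⟩, fun i hi => ?_⟩
    haveI := hα.1 i (by lia)
    exact (((ShortComplex.isZero_homology_of_isZero_X₂ _ (hab i (Or.inr (by lia)))).of_iso
      ((DerivedCategory.homologyFunctorFactors _ i).app E)).of_iso
        (asIso ((DerivedCategory.homologyFunctor U.Modules i).map α)).symm).of_iso
          ((homologyDerIso (Scheme.Modules.restrictFunctor j) i).app F).symm
  choose U j hj b hx hz using hb
  obtain ⟨T, hT⟩ := isCompact_univ.elim_finite_subcover (fun x => Set.range (j x).base)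
    (fun x => haveI := hj x; (j x).isOpenEmbedding.isOpen_range) (fun x _ => Set.mem_iUnion.2 ⟨x, hx x⟩)
  obtain ⟨B, hB⟩ := (T.image b).bddAbove
  refine ⟨B, (DerivedCategory.isLE_iff F B).2 fun i hi => ?_⟩
  haveI : ∀ t : T, IsOpenImmersion (j t.1) := fun t => hj t.1
  refine isZero_of_restrict_cover (fun t : T => j t.1) (fun x => ?_) fun t =>
    hz t.1 i (lt_of_le_of_lt (hB (Finset.mem_coe.2 (Finset.mem_image_of_mem b t.2))) hi)
  obtain ⟨y, hy, hxy⟩ := Set.mem_iUnion₂.1 (hT (Set.mem_univ x))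
  exact ⟨⟨y, hy⟩, hxy⟩

/-- reduction of pseudo-coherence of `Rf_*` to bounded objects -/
theorem pc_rpush_of_bounded (f : X ⟶ Y) [QuasiCompact f] [QuasiSeparated f] [CompactSpace Y] [DCoh.HasRpush f] (k : ℤ)
    (hK : ∀ (F : DCoh.D X) (n a b : ℤ), F.IsGE a → F.IsLE b → DCoh.IsPseudoCoherentD n F →
      DCoh.IsPseudoCoherentD (n + k) ((DCoh.Rpush f).obj F))
    (F : DCoh.D X) (hF : ∀ m : ℤ, DCoh.IsPseudoCoherentD m F) (m : ℤ) :
    DCoh.IsPseudoCoherentD m ((DCoh.Rpush f).obj F) := by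
  haveI : SiteCmp.HasRpushD (ModSite.RMor.ofScheme f) := ‹DCoh.HasRpush f›
  haveI : CompactSpace X := QuasiCompact.compactSpace_of_compactSpace f
  have hq : DCoh.IsQCohD F := fun i => (isQCoh_cohomology_of_pseudoCoherent (i - 1) F (hF _)).1 i (by lia)
  obtain ⟨b, hb⟩ := exists_isLE_of_pc (hF 0)
  haveI := hb
  obtain ⟨N, hN⟩ := exists_amplitude f
  let a : ℤ := min (m - k) (m - (N : ℤ)) - 2
  let t : Triangulated.TStructure (DCoh.D X) := DerivedCategory.TStructure.t
  let T := (t.truncGE a).obj F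
  haveI hTge : T.IsGE a := t.isGE_truncGE_obj F a a le_rfl
  haveI hTle : T.IsLE (max a b) := (DerivedCategory.isLE_iff _ _).2 fun i hi => by
    have := HDU.isIso_H_truncGEπ F a i (le_trans (le_max_left a b) hi.le)
    exact ((DerivedCategory.isLE_iff F b).1 hb i (lt_of_le_of_lt (le_max_right a b) hi)).of_iso
      (asIso ((DerivedCategory.homologyFunctor X.Modules i).map ((t.truncGEπ a).app F))).symm
  obtain ⟨C, v, w, hT⟩ := Pretriangulated.distinguished_cocone_triangle ((t.truncGEπ a).app F)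
  obtain ⟨c, hT'⟩ := RPushSite.exists_rpush_triangle (ModSite.RMor.ofScheme f) _ _ _ hT
  have hTq : DCoh.IsQCohD T := fun i => by
    rcases lt_or_ge i a with h | h
    · exact DQCoh.isQCoh_of_isZero ((DerivedCategory.isGE_iff _ a).1 hTge i h)
    · have := HDU.isIso_H_truncGEπ F a i h
      exact QC.isQCoh_of_iso (asIso ((DerivedCategory.homologyFunctor X.Modules i).map ((t.truncGEπ a).app F))) (hq i)
  have hC : DCoh.IsQCohD C := fun i => isQCoh_of_exact₅ _ _ _ _ _ _ _
    (DerivedCategory.HomologySequence.exact₂ _ hT i)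
    (DerivedCategory.HomologySequence.exact₃ _ hT i (i + 1) rfl)
    (DerivedCategory.HomologySequence.exact₁ _ hT i (i + 1) rfl) (hq i) (hTq i) (hq (i + 1)) (hTq (i + 1))
  have hm : MIsoD a ((t.truncGEπ a).app F) :=
    ⟨fun i hi => HDU.isIso_H_truncGEπ F a i hi.le, haveI := HDU.isIso_H_truncGEπ F a a le_rfl; inferInstance⟩
  have hab : IsAboveD a C := (mIsoD_iff a _ hT).1 hm
  haveI : C.IsLE (a - 1) := (DerivedCategory.isLE_iff _ _).2 fun i hi => hab i (by omega)
  -- `τ_{≥ a} F` is pseudo-coherent from degree `a + 1`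
  have hTpc : DCoh.IsPseudoCoherentD (m - k) T := by
    have h3 : DCoh.IsPseudoCoherentD (m - k - 1) (F⟦(1 : ℤ)⟧) := pc_shift (hF (m - k)) 1
    have h4 := pc_obj₁ _ (rot_of_distTriang _ hT) (m - k - 1)
      (pc_of_isAbove (isAboveD_mono (by lia) hab)) h3
    rwa [sub_add_cancel] at h4
  have h1 := hK T (m - k) a (max a b) hTge hTle hTpc
  rw [sub_add_cancel] at h1
  have hC' : IsAboveD (a - 1 + N) ((DCoh.Rpush f).obj C) := fun i hi => hN C hC (a - 1) inferInstance i hi
  have h2 := pc_obj₁ _ hT' (m - 1) (by rw [sub_add_cancel]; exact h1) (pc_of_isAbove (isAboveD_mono (by lia) hC'))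
  rwa [sub_add_cancel] at h2

end Groth.Agent.DQPush
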